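import Cfsg.Agent.Lib.Blocks.SemiDefect.Involution

/-!
# Bounds for `k - l` of a block with semidihedral defect group

Let `b` be the block of `H = C(z)` below the maximal pair. Its generalized characters vanishing
on the regular elements and at `τ` form a space of dimension `2 r + 1` and live on the elements
having `z` as a power, so they induce injectively to the block. If the pair at `τ` is fused with
`(⟨z⟩, b)` then, conversely, the restriction to `H` of these elements embeds the kernel for the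
block into that space.
-/

set_option autoImplicit false

namespace CfsgLib.Blocks.SemiDefect

open Cfsg CfsgLib.Blocks CfsgLib.Pairs CfsgLib.Star CfsgLib.Char CfsgLib.Blocks.DihedralDefect
  CfsgLib.Blocks.QuaternionDefect
open scoped Classical ComplexConjugate

variable {G : Type*} [Group G] [Fintype G] {M : Ideal AlgInt} [M.IsPrime] [Fact (Nat.Prime 2)]
  {B : Set (IrrCharacter G)}

/-- The value at `t` of the combinations of the members. -/
noncomputable def evalAt (B : Set (IrrCharacter G)) (t : G) : (mems B → ℂ) →ₗ[ℂ] ℂ :=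
  Fintype.linearCombination ℂ fun χ : mems B => ((χ : IrrCharacter G) : G → ℂ) t

omit [Fact (Nat.Prime 2)] in
theorem evalAt_apply (t : G) (w : mems B → ℂ) : evalAt B t w = phiMap B w t := by
  simp [evalAt, phiMap, Fintype.linearCombination_apply]

/-- The combinations vanishing on the regular elements and at `t`. -/
noncomputable def kerAt (B : Set (IrrCharacter G)) (t : G) : Submodule ℂ (mems B → ℂ) :=
  LinearMap.ker (regMap 2 B) ⊓ LinearMap.ker (evalAt B t)

omit [Fact (Nat.Prime 2)] in
theorem mem_kerAt {t : G} {w : mems B → ℂ} :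
    w ∈ kerAt B t ↔
      (∀ g : G, ¬ 2 ∣ orderOf g → phiMap B w g = 0) ∧ phiMap B w t = 0 := by
  rw [kerAt, Submodule.mem_inf, LinearMap.mem_ker, LinearMap.mem_ker, regMap_eq_zero_iff,
    evalAt_apply]
  rfl

omit [Fact (Nat.Prime 2)] in
/-- The combinations determine their coefficients. -/
theorem eq_zero_of_phiMap_eq_zero {w : mems B → ℂ} (h : ∀ g, phiMap B w g = 0) : w = 0 := by
  have := Fintype.ofFinite (IrrCharacter G)
  have e : phiMap B w = ∑ χ : mems B, w χ • ((χ : IrrCharacter G) : G → ℂ) := funext fun g => by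
    simp [phiMap]
  funext ψ
  have h2 := congrArg (fun f => classInner f ((ψ : IrrCharacter G) : G → ℂ))
    (e.symm.trans (funext h : phiMap B w = fun _ => 0))
  simp only [classInner_sum_left, classInner_smul_left, classInner_irr] at h2
  rw [Finset.sum_eq_single ψ (fun u _ hne => by
    rw [if_neg fun e => hne (Subtype.ext e), mul_zero])
    (fun hn => absurd (Finset.mem_univ _) hn), if_pos rfl, mul_one] at h2
  rw [h2, Pi.zero_apply]
  simp [classInner]

/-- Induction is injective on a space of combinations vanishing on the regular elements and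
supported on the elements having `z` as a power. -/
theorem finrank_le_kerAt {H : Subgroup G} {b : Set (IrrCharacter H)} (hM : IsPModular 2 M) {z : G}
    (hz : z * z = 1) (hz1 : z ≠ 1)
    (hH : H = Subgroup.centralizer (Subgroup.zpowers z : Set G)) (hind : IsInducedBlock M H b B)
    (W : Submodule ℂ (mems b → ℂ))
    (hsupp : ∀ w ∈ W, ∀ g : H, phiMap b w g ≠ 0 → Supp z (g : G)) {t : G}
    (ht : ∀ x : G, ¬ Supp z (x⁻¹ * t * x)) :
    Module.finrank ℂ W ≤ Module.finrank ℂ (kerAt B t) := by
  have := Fintype.ofFinite (IrrCharacter H)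
  have := Fintype.ofFinite (IrrCharacter G)
  let φ : (mems b → ℂ) → H → ℂ := phiMap b
  have hφs : ∀ w, φ w = ∑ ψ : mems b, w ψ • ((ψ : IrrCharacter H) : H → ℂ) := fun w => funext fun g => by
    simp [φ, phiMap]
  let T : (mems b → ℂ) →ₗ[ℂ] (mems B → ℂ) :=
    Fintype.linearCombination ℂ fun ψ : mems b => fun χ : mems B =>
      classInner ((ψ : IrrCharacter H) : H → ℂ) (fun k : H => ((χ : IrrCharacter G) : G → ℂ) k)
  have hT : ∀ w (χ : mems B),
      T w χ = classInner (indFun H (φ w)) ((χ : IrrCharacter G) : G → ℂ) := fun w χ => by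
    rw [frobenius_reciprocity _ _ (Char.IsIrr.isClassFunction χ.1.2), hφs, classInner_sum_left]
    simp only [T, Fintype.linearCombination_apply, Finset.sum_apply, Pi.smul_apply, smul_eq_mul,
      classInner_smul_left]
  have houtside : ∀ w ∈ W, ∀ χ : IrrCharacter G, χ ∉ B →
      classInner (indFun H (φ w)) (χ : G → ℂ) = 0 := by
    intro w hw χ hχ
    rw [frobenius_reciprocity _ _ (Char.IsIrr.isClassFunction χ.2)]
    set f : H → ℂ := fun k => (χ : G → ℂ) k with hf
    have h1 : classInner (φ w) (blockPart b f) = classInner (φ w) f := by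
      simp only [hφs, classInner_sum_left, classInner_smul_left]
      refine Finset.sum_congr rfl fun ψ _ => ?_
      congr 1
      rw [← classInner_conj_symm, classInner_blockPart,
        if_pos ((Set.Finite.mem_toFinset _).1 ψ.2), classInner_conj_symm]
    rw [← h1, classInner, Finset.sum_eq_zero fun g _ => ?_, mul_zero]
    by_cases hg : φ w g = 0
    · rw [hg, zero_mul]
    · obtain ⟨u, hu⟩ : ∃ u, IsPPart 2 (g : G) u := ⟨_, isPPart_pPt _⟩
      rw [hf, blockPart_restrict_eq_zero hM
        ⟨1, by rw [pow_one]; exact orderOf_eq_prime (by rw [pow_two]; exact hz) hz1⟩ hH hind hχ g hu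
        ((hsupp w hw g hg).mem_zpowers_pPart hz hu), map_zero, mul_zero]
  have hexp : ∀ w ∈ W, indFun H (φ w) =
      ∑ χ : mems B, T w χ • ((χ : IrrCharacter G) : G → ℂ) := fun w hw => by
    conv_lhs => rw [classFunction_eq_sum (isClassFunction_indFun H (φ w))]
    rw [← Finset.sum_subset (Finset.subset_univ (mems B)) fun χ _ hχ => by
      rw [houtside w hw χ fun h => hχ ((Set.Finite.mem_toFinset _).2 h), zero_smul],
      ← Finset.sum_coe_sort (mems B)]
    exact Finset.sum_congr rfl fun χ _ => by rw [hT]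
  have hker : ∀ w ∈ W, T w ∈ kerAt B t := fun w hw => by
    refine mem_kerAt.2 ⟨fun g hg => ?_, ?_⟩
    swap
    · have h1 := congrFun (hexp w hw) t
      simp only [Finset.sum_apply, Pi.smul_apply, smul_eq_mul] at h1
      rw [phiMap, ← h1]
      exact DihedralDefect.indFun_eq_zero_of_not_supp (hsupp w hw) ht
    have h1 := congrFun (hexp w hw) g
    simp only [Finset.sum_apply, Pi.smul_apply, smul_eq_mul] at h1
    rw [phiMap, ← h1]
    refine DihedralDefect.indFun_eq_zero_of_not_supp (hsupp w hw) fun x hx => hg ?_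
    have h2 := Supp.not_two_dvd hz hz1 hx
    have h3 := MulEquiv.orderOf_eq (MulAut.conj x⁻¹) g
    rw [MulAut.conj_apply, inv_inv] at h3
    rwa [h3] at h2
  have hH' : ∀ x : G, Commute x z → x ∈ H := fun x hx => by
    rw [hH, DihedralDefect.centralizer_zpowers]
    exact Subgroup.mem_centralizer_singleton_iff.2 hx.eq
  have hinj : ∀ w ∈ W, T w = 0 → w = 0 := fun w hw hw0 => by
    have h0 : indFun H (φ w) = 0 := by rw [hexp w hw, hw0]; simp
    refine eq_zero_of_phiMap_eq_zero fun g => ?_
    by_contra hne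
    have h := DihedralDefect.indFun_eq_self hz hz1 hH' (isClassFunction_phiMap b w)
      (hsupp w hw) (g := g) (hsupp w hw g hne)
    exact hne (h.symm.trans (congrFun h0 _))
  let T' : W →ₗ[ℂ] kerAt B t :=
    (T.comp W.subtype).codRestrict _ fun w => hker w w.2
  refine LinearMap.finrank_le_finrank_of_injective (f := T') ?_
  rw [← LinearMap.ker_eq_bot, LinearMap.ker_eq_bot']
  exact fun w hw => Subtype.ext (hinj w w.2 (congrArg Subtype.val hw))

/-- In particular it is injective into the relations on the regular elements. -/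
theorem finrank_le_ker {H : Subgroup G} {b : Set (IrrCharacter H)} (hM : IsPModular 2 M) {z : G}
    (hz : z * z = 1) (hz1 : z ≠ 1)
    (hH : H = Subgroup.centralizer (Subgroup.zpowers z : Set G)) (hind : IsInducedBlock M H b B)
    (W : Submodule ℂ (mems b → ℂ))
    (hsupp : ∀ w ∈ W, ∀ g : H, phiMap b w g ≠ 0 → Supp z (g : G)) :
    Module.finrank ℂ W ≤ Module.finrank ℂ (LinearMap.ker (regMap 2 B)) :=
  (finrank_le_kerAt (t := 1) hM hz hz1 hH hind W hsupp fun x ⟨m, hm⟩ =>
    hz1 (by rw [← hm]; simp)).trans (Submodule.finrank_mono inf_le_left)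

variable {P : Subgroup G} {c : Set (IrrCharacter (Subgroup.centralizer (P : Set G)))}
  {σ τ : G} {r : ℕ} {l : Subgroup.zpowers σ →* ℂˣ}

/-- The pair below a maximal pair at the central involution. -/
theorem exists_local_pair (hM : IsPModular 2 M) (hmax : IsMaximalBrauerPair 2 M B P c)
    (h : Semi P σ τ r l) :
    ∃ b : Set (IrrCharacter (Subgroup.centralizer (Subgroup.zpowers (σ ^ (2 * r)) : Set G))),
      IsPBlock M b ∧ SubpairLE 2 M (Subgroup.zpowers (σ ^ (2 * r))) b P c ∧
        IsInducedBlock M (Subgroup.centralizer (Subgroup.zpowers (σ ^ (2 * r)) : Set G)) b B ∧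
        blockDefect 2 b = blockDefect 2 B ∧
        IsDefectGroup 2 M b
          (P.subgroupOf (Subgroup.centralizer (Subgroup.zpowers (σ ^ (2 * r)) : Set G))) := by
  have hzP : σ ^ (2 * r) ∈ P := P.pow_mem h.memσ _
  have hzc : σ ^ (2 * r) ∈ Subgroup.centralizer (P : Set G) :=
    Subgroup.mem_centralizer_iff.2 fun x hx => (h.z_commute hx).symm.eq
  obtain ⟨b, -, hle⟩ := exists_below hM (Nat.card P) (Nat.sub_le _ _) hmax.1.1
    (Subgroup.zpowers_le.2 hzP)
  have hfB := (subpairLE_pairOf_iff hM (a := ⟨Subgroup.zpowers (σ ^ (2 * r)), b⟩) hle B).1 hmax.1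
  have hd := blockDefect_eq_of_central hM hmax hzc hle
  refine ⟨b, hfB.1.2, hle, Star.isInducedBlock_of_pairOf hM hfB, hd, ?_⟩
  have hPC : P ≤ Subgroup.centralizer (Subgroup.zpowers (σ ^ (2 * r)) : Set G) := by
    rw [DihedralDefect.centralizer_zpowers]
    exact fun x hx => Subgroup.mem_centralizer_singleton_iff.2 (h.z_commute hx).symm.eq
  have hco : ∀ k : Subgroup.centralizer (Subgroup.zpowers (σ ^ (2 * r)) : Set G), blockCoeff b k =
      subgroupBlockCoeff (Subgroup.centralizer (Subgroup.zpowers (σ ^ (2 * r)) : Set G)) b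
        (k : G) := fun k => by
    unfold subgroupBlockCoeff
    rw [dif_pos k.2]
  have hbr := brv_centralizerIn hM hmax.1.1 hle
  rw [inf_eq_left.2 hPC] at hbr
  obtain ⟨D', hD', hPD⟩ := exists_defectGroup_ge hM hfB.1.2 le_rfl hfB.1.2 hco hPC hmax.1.1.1 hbr
  have h1 : Nat.card D' = 2 ^ blockDefect 2 b := IsDefectGroup.card_eq hM hfB.1.2 hD'
  have h2 : Nat.card P = 2 ^ blockDefect 2 B :=
    IsDefectGroup.card_eq hM hmax.1.2.1 (isDefectGroup_of_maximal hM hmax)
  rwa [Subgroup.eq_of_le_of_card_ge hPD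
    (by rw [CfsgLib.Fusion.card_subgroupOf_eq hPC, h1, h2, hd])]

/-- With the involution in the centre, the space has dimension `2 r + 1` and its members are
supported on the elements having `z` as a power. -/
theorem kerAt_of_central (hM : IsPModular 2 M) (hB : IsPBlock M B) (hP : IsDefectGroup 2 M B P)
    (h : Semi P σ τ r l) (hz : ∀ g : G, Commute (σ ^ (2 * r)) g) :
    Module.finrank ℂ (kerAt B τ) = 2 * r + 1 ∧
      ∀ w ∈ kerAt B τ, ∀ g : G, phiMap B w g ≠ 0 → Supp (σ ^ (2 * r)) g := by
  obtain ⟨c, hc⟩ := exists_pairOf_of_isDefectGroup hM hB hP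
  have hmax := isMaximal_of_isDefectGroup hM hc hP
  obtain ⟨fτ, -, hle⟩ := exists_below hM (Nat.card P) (Nat.sub_le _ _) hmax.1.1
    (Subgroup.zpowers_le.2 h.memτ)
  obtain ⟨η₀, hη⟩ := apply_τ_of_central hM hmax h hle hz
  -- the value on the section of `τ`
  have hsec : ∀ w : mems B → ℂ, ∀ g u : G, IsPPart 2 g u → IsConj τ u → phiMap B w τ = 0 →
      phiMap B w g = 0 := by
    intro w g u hu hconj hw
    obtain ⟨x, hx⟩ := isConj_iff.1 hconj
    obtain ⟨s, hs, hc', -, hso⟩ := hu
    have hcs : Commute τ (x⁻¹ * s * x) := by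
      show τ * (x⁻¹ * s * x) = x⁻¹ * s * x * τ
      have h1 : τ = x⁻¹ * u * x := by rw [← hx]; group
      rw [h1]
      calc x⁻¹ * u * x * (x⁻¹ * s * x) = x⁻¹ * (u * s) * x := by group
        _ = x⁻¹ * (s * u) * x := by rw [hc'.eq]
        _ = _ := by group
    have hsC : x⁻¹ * s * x ∈ Subgroup.centralizer (Subgroup.zpowers τ : Set G) := by
      rw [DihedralDefect.centralizer_zpowers]
      exact Subgroup.mem_centralizer_singleton_iff.2 hcs.symm.eq
    have hso' : ¬ 2 ∣ orderOf (⟨_, hsC⟩ : Subgroup.centralizer (Subgroup.zpowers τ : Set G)) := by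
      rw [Subgroup.orderOf_mk]
      have h3 := MulEquiv.orderOf_eq (MulAut.conj x⁻¹) s
      rw [MulAut.conj_apply, inv_inv] at h3
      rwa [h3]
    rw [← isClassFunction_phiMap B w g x⁻¹, show x⁻¹ * g * x⁻¹⁻¹ = τ * (x⁻¹ * s * x) by
      rw [← hs, ← hx]; group]
    show ∑ χ : mems B, w χ * ((χ : IrrCharacter G) : G → ℂ) (τ * ((⟨_, hsC⟩ :
      Subgroup.centralizer (Subgroup.zpowers τ : Set G)) : G)) = 0
    rw [Finset.sum_congr rfl fun χ _ => by
      rw [hη _ ((Set.Finite.mem_toFinset _).1 χ.2) _ hso', ← mul_assoc, mul_div_assoc'],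
      ← Finset.sum_mul, ← Finset.sum_div]
    show phiMap B w τ / _ * _ = 0
    rw [hw, zero_div, zero_mul]
  refine ⟨?_, fun w hw g hne => ?_⟩
  · -- the dimension
    have hk := blockRank_add_le_card_of_central hM hB hP h hz
    have hk' := blockRank_add_ker (p := 2) (B := B)
    set L := (evalAt B τ).comp (LinearMap.ker (regMap 2 B)).subtype with hL
    have hdim := L.finrank_range_add_finrank_ker
    have hle1 : Module.finrank ℂ (LinearMap.range L) ≤ 1 :=
      (Submodule.finrank_le _).trans_eq (Module.finrank_self ℂ)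
    have hker : Module.finrank ℂ (LinearMap.ker L) = Module.finrank ℂ (kerAt B τ) := by
      rw [hL, LinearMap.ker_comp, kerAt, ← Submodule.finrank_map_subtype_eq,
        Submodule.map_comap_subtype]
    obtain ⟨χ₀, hχ₀, h0⟩ := exists_height_zero (p := 2) (IsPBlock.nonempty hB)
    obtain ⟨u, ⟨v, hv, hconj⟩, hne⟩ := (exists_apply_ne_zero_iff hM hB hP hχ₀ h0 h.τ_pow).1
      ⟨1, by simpa using h.memτ⟩
    -- a combination not vanishing at `τ`
    set w₀ : mems B → ℂ := fun χ => ((χ : IrrCharacter G) : G → ℂ) τ with hw₀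
    have hw₀k : w₀ ∈ LinearMap.ker (regMap 2 B) := by
      rw [LinearMap.mem_ker, regMap_eq_zero_iff]
      intro g hg
      have h1 := sum_block_regular_singular hM hB hg
        (show 2 ∣ orderOf τ by rw [h.τ_ord])
      rw [finsum_mem_eq_finite_toFinset_sum _ (Set.toFinite B), ← Finset.sum_coe_sort] at h1
      rw [← h1]
      exact Finset.sum_congr rfl fun χ _ => mul_comm _ _
    have hτinv : τ⁻¹ = τ := inv_eq_of_mul_eq_one_right h.τ_sq
    have hw₀L : L ⟨w₀, hw₀k⟩ ≠ 0 := by
      intro h0'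
      have h1 : phiMap B w₀ τ = 0 := by rw [← evalAt_apply]; exact h0'
      have h2 : ∀ χ : mems B, ((χ : IrrCharacter G) : G → ℂ) τ = 0 := by
        have e : ∀ χ : mems B, w₀ χ * ((χ : IrrCharacter G) : G → ℂ) τ =
            (Complex.normSq (((χ : IrrCharacter G) : G → ℂ) τ) : ℂ) := fun χ => by
          rw [← Complex.mul_conj, ← Char.IsIrr.map_inv χ.1.2, hτinv]
        rw [phiMap, Finset.sum_congr rfl fun χ _ => e χ, ← Complex.ofReal_sum,
          Complex.ofReal_eq_zero,
          Finset.sum_eq_zero_iff_of_nonneg fun χ _ => Complex.normSq_nonneg _] at h1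
        exact fun χ => Complex.normSq_eq_zero.1 (h1 χ (Finset.mem_univ _))
      refine hne ?_
      have hmem : χ₀ ∈ mems B := (Set.Finite.mem_toFinset _).2 hχ₀
      have e : phiMap B (Pi.single ⟨χ₀, hmem⟩ 1) = (χ₀ : G → ℂ) := funext fun g => by
        simp [phiMap, Pi.single_apply]
      rw [← e]
      exact hsec _ u v hv hconj (by rw [e]; exact h2 ⟨χ₀, hmem⟩)
    have hge1 : 1 ≤ Module.finrank ℂ (LinearMap.range L) :=
      Submodule.one_le_finrank_iff.2 fun hbot => hw₀L (by
        have := LinearMap.mem_range_self L ⟨w₀, hw₀k⟩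
        rwa [hbot, Submodule.mem_bot] at this)
    omega
  · -- the support
    rw [mem_kerAt] at hw
    obtain ⟨u, hu⟩ : ∃ u, IsPPart 2 g u := ⟨_, isPPart_pPt _⟩
    have hu1 : u ≠ 1 := fun e => by
      obtain ⟨y, hy, -, -, hyo⟩ := hu
      rw [e, one_mul] at hy
      exact hne (hw.1 g (hy ▸ hyo))
    obtain ⟨D, hDd, huD⟩ : ∃ D, IsDefectGroup 2 M B D ∧ u ∈ D := by
      by_contra hno
      push Not at hno
      exact hne (Finset.sum_eq_zero fun ψ _ => by
        rw [apply_eq_zero_of_pPart_notMem hM hB ((Set.Finite.mem_toFinset _).1 ψ.2) hu hno,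
          mul_zero])
    obtain ⟨x, hx⟩ := IsDefectGroup.exists_conj hM hB hDd hP
    have hxu : x * u * x⁻¹ ∈ P := hx ▸ ⟨u, huD, rfl⟩
    rcases h.z_mem_or_involution hxu fun e => hu1 (by simpa using e) with hzu | ⟨hnσ, hsq⟩
    · obtain ⟨m, hm⟩ := Subgroup.mem_zpowers_iff.1 hzu
      have hm' : u ^ m = σ ^ (2 * r) := by
        rw [_root_.conj_zpow, mul_inv_eq_iff_eq_mul, (hz x).eq] at hm
        exact mul_left_cancel hm
      have hzg : σ ^ (2 * r) ∈ Subgroup.zpowers g :=
        hm' ▸ Subgroup.zpow_mem _ (mem_zpowers_pPart hu) m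
      obtain ⟨k, hk⟩ := (mem_powers_iff_mem_zpowers.2 hzg : σ ^ (2 * r) ∈ Submonoid.powers g)
      exact ⟨k, hk⟩
    · obtain ⟨y, -, hyτ⟩ := h.exists_conj_eq_τ hxu hnσ hsq
      refine absurd (hsec w g u hu (isConj_iff.2 ⟨(y * x)⁻¹, ?_⟩) hw.2) hne
      rw [← hyτ]
      group

/-- The lower bound for `k - l`. -/
theorem blockRank_add_le_card (hM : IsPModular 2 M) (hmax : IsMaximalBrauerPair 2 M B P c)
    (h : Semi P σ τ r l) : blockRank 2 B + 2 * r + 1 ≤ Nat.card B := by
  obtain ⟨b, hb, -, hind, -, hD⟩ := exists_local_pair hM hmax h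
  have hPH : P ≤ Subgroup.centralizer (Subgroup.zpowers (σ ^ (2 * r)) : Set G) := fun x hx => by
    rw [DihedralDefect.centralizer_zpowers]
    exact Subgroup.mem_centralizer_singleton_iff.2 (h.z_commute hx).symm.eq
  obtain ⟨l', h'⟩ := h.subgroupOf hPH
  have hzH : ∀ g : Subgroup.centralizer (Subgroup.zpowers (σ ^ (2 * r)) : Set G),
      Commute ((⟨σ, hPH h.memσ⟩ : Subgroup.centralizer
        (Subgroup.zpowers (σ ^ (2 * r)) : Set G)) ^ (2 * r)) g := fun g => Subtype.ext (by
    simpa using Subgroup.mem_centralizer_iff.1 g.2 _ (Subgroup.mem_zpowers (σ ^ (2 * r))))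
  obtain ⟨hdim, hsupp⟩ := kerAt_of_central hM hb hD h' hzH
  have h1 := finrank_le_ker (B := B) hM h.z_sq h.z_ne rfl hind _ fun w hw g hne => by
    obtain ⟨k, hk⟩ := hsupp w hw g hne
    exact ⟨k, by simpa using congrArg Subtype.val hk⟩
  have h2 := blockRank_add_ker (p := 2) (B := B)
  omega

/-- The upper bound when the pair at `τ` is fused with the one at `z`. -/
theorem card_le_of_fused (hM : IsPModular 2 M) (hmax : IsMaximalBrauerPair 2 M B P c)
    (h : Semi P σ τ r l)
    {fτ : Set (IrrCharacter (Subgroup.centralizer (Subgroup.zpowers τ : Set G)))}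
    (hleτ : SubpairLE 2 M (Subgroup.zpowers τ) fτ P c) {g₀ : G}
    (hfus : Relation.ReflTransGen (NormalSubpairRel 2 M)
      (conjPair g₀ ⟨Subgroup.zpowers τ, fτ⟩) ⟨P, c⟩)
    (hg₀ : g₀ * τ * g₀⁻¹ = σ ^ (2 * r)) : Nat.card B ≤ blockRank 2 B + 2 * r + 1 := by
  obtain ⟨b, hb, hleb, -, -, hD⟩ := exists_local_pair hM hmax h
  have hB := hmax.1.2.1
  have hPe := hmax.1.1
  have hPH : P ≤ Subgroup.centralizer (Subgroup.zpowers (σ ^ (2 * r)) : Set G) := fun x hx => by
    rw [DihedralDefect.centralizer_zpowers]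
    exact Subgroup.mem_centralizer_singleton_iff.2 (h.z_commute hx).symm.eq
  obtain ⟨l', h'⟩ := h.subgroupOf hPH
  have hzc : ∀ k : Subgroup.centralizer (Subgroup.zpowers (σ ^ (2 * r)) : Set G),
      Commute (σ ^ (2 * r)) (k : G) := fun k =>
    Subgroup.mem_centralizer_iff.1 k.2 _ (Subgroup.mem_zpowers (σ ^ (2 * r)))
  have hzH : ∀ g : Subgroup.centralizer (Subgroup.zpowers (σ ^ (2 * r)) : Set G),
      Commute ((⟨σ, hPH h.memσ⟩ : Subgroup.centralizer
        (Subgroup.zpowers (σ ^ (2 * r)) : Set G)) ^ (2 * r)) g := fun g => Subtype.ext (by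
    simpa using (hzc g).eq)
  obtain ⟨hdim, -⟩ := kerAt_of_central hM hb hD h' hzH
  set τH : Subgroup.centralizer (Subgroup.zpowers (σ ^ (2 * r)) : Set G) := ⟨τ, hPH h.memτ⟩
  -- the truncated restriction
  let tr : (G → ℂ) → G → ℂ := fun φ g => if Supp (σ ^ (2 * r)) g then φ g else 0
  let R : (mems B → ℂ) →ₗ[ℂ] (mems b → ℂ) :=
    Fintype.linearCombination ℂ fun χ : mems B => fun ψ : mems b =>
      classInner (fun k : Subgroup.centralizer (Subgroup.zpowers (σ ^ (2 * r)) : Set G) =>
        tr ((χ : IrrCharacter G) : G → ℂ) (k : G))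
          ((ψ : IrrCharacter (Subgroup.centralizer (Subgroup.zpowers (σ ^ (2 * r)) : Set G))) :
            (Subgroup.centralizer (Subgroup.zpowers (σ ^ (2 * r)) : Set G)) → ℂ)
  have hR : ∀ w k, phiMap b (R w) k = blockPart b
      (fun k : Subgroup.centralizer (Subgroup.zpowers (σ ^ (2 * r)) : Set G) =>
        tr (phiMap B w) (k : G)) k := fun w k => by
    rw [show (fun k : Subgroup.centralizer (Subgroup.zpowers (σ ^ (2 * r)) : Set G) =>
      tr (phiMap B w) (k : G)) = ∑ χ : mems B, w χ • fun k : Subgroup.centralizer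
        (Subgroup.zpowers (σ ^ (2 * r)) : Set G) => tr ((χ : IrrCharacter G) : G → ℂ) (k : G) from funext fun k => by
      by_cases hs : Supp (σ ^ (2 * r)) (k : G) <;> simp [tr, phiMap, hs],
      blockPart_eq, finsum_mem_eq_finite_toFinset_sum _ (Set.toFinite b), phiMap,
      ← Finset.sum_coe_sort (mems b)]
    refine Finset.sum_congr rfl fun ψ _ => ?_
    rw [classInner_sum_left]
    simp only [R, Fintype.linearCombination_apply, Finset.sum_apply, Pi.smul_apply, smul_eq_mul,
      classInner_smul_left]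
  have hRW : ∀ w : mems B → ℂ, R w ∈ kerAt b τH := fun w => by
    rw [mem_kerAt]
    refine ⟨fun k hk => ?_, ?_⟩
    · rw [hR, Star.blockPart_congr_regular hM hb (φ' := fun _ => 0) (fun v hv => if_neg fun hs =>
        hv (by rw [← Subgroup.orderOf_coe]; exact Supp.not_two_dvd h.z_sq h.z_ne hs)) hk,
        blockPart_zero]
    · rw [hR]
      refine blockPart_eq_zero_of_section hM hb (x := τH) (fun u v hu hconj => if_neg fun hs => ?_)
        (u := τH) (z := τH) ⟨1, mul_one _, Commute.one_right _, by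
          rw [Subgroup.orderOf_mk]; exact h.τ_pow, by simp⟩ (IsConj.refl _)
      obtain ⟨x, hx⟩ := isConj_iff.1 hconj
      have hv : (v : G) = (x : G) * τ * (x : G)⁻¹ := by rw [← hx]; rfl
      have hpart : IsPPart 2 (u : G) (v : G) := by
        obtain ⟨y, hy, hc', ⟨k, hk⟩, hyo⟩ := hu
        exact ⟨(y : G), by rw [← hy]; rfl, congrArg Subtype.val hc'.eq,
          ⟨k, by rwa [Subgroup.orderOf_coe]⟩, by rwa [Subgroup.orderOf_coe]⟩
      obtain ⟨i, hi⟩ := Subgroup.mem_zpowers_iff.1 (hs.mem_zpowers_pPart h.z_sq hpart)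
      rw [hv, _root_.conj_zpow, mul_inv_eq_iff_eq_mul, (hzc x).eq] at hi
      have hi' := mul_left_cancel hi
      exact h.notMem (by
        rcases Int.even_or_odd i with ⟨j, hj⟩ | ⟨j, hj⟩
        · rw [hj, zpow_add, ← (Commute.refl τ).mul_zpow, h.τ_sq, one_zpow] at hi'
          exact absurd hi'.symm h.z_ne
        · rw [hj, zpow_add, zpow_one, zpow_mul, show τ ^ (2 : ℤ) = 1 by
            rw [zpow_two]; exact h.τ_sq, one_zpow, one_mul] at hi'
          exact absurd hi' h.τ_ne_z)
  have hcl : ∀ w : mems B → ℂ, IsClassFunction _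
      fun k : Subgroup.centralizer (Subgroup.zpowers (σ ^ (2 * r)) : Set G) =>
        tr (phiMap B w) (k : G) := fun w k y => by
    have hiff : Supp (σ ^ (2 * r)) (((y * k * y⁻¹ : Subgroup.centralizer
        (Subgroup.zpowers (σ ^ (2 * r)) : Set G))) : G) ↔ Supp (σ ^ (2 * r)) (k : G) := by
      simp only [Subgroup.coe_mul, Subgroup.coe_inv, Supp, conj_pow, mul_inv_eq_iff_eq_mul,
        (hzc y).eq, mul_right_inj]
    simp only [tr, hiff]
    congr 1
    simp only [Subgroup.coe_mul, Subgroup.coe_inv]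
    exact isClassFunction_phiMap B w _ _
  have hinj : ∀ w ∈ LinearMap.ker (regMap 2 B), R w = 0 → w = 0 := fun w hw hw0 => by
    rw [LinearMap.mem_ker, regMap_eq_zero_iff] at hw
    have h0 : ∀ k, blockPart b (fun k : Subgroup.centralizer
        (Subgroup.zpowers (σ ^ (2 * r)) : Set G) => tr (phiMap B w) (k : G)) k = 0 := fun k => by
      rw [← hR, hw0]
      simp [phiMap]
    -- the parts at the pairs above `(⟨z⟩, b)`
    have hA : ∀ (u : G) (f : Set (IrrCharacter (Subgroup.centralizer (Subgroup.zpowers u : Set G)))),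
        Relation.ReflTransGen (NormalSubpairRel 2 M) ⟨Subgroup.zpowers u, f⟩ ⟨P, c⟩ →
        σ ^ (2 * r) ∈ Subgroup.zpowers u → PartZero (phiMap B w) ⟨Subgroup.zpowers u, f⟩ u := by
      intro u f hle hzu
      have huP : u ∈ P := le_of_subpairLE hle (Subgroup.mem_zpowers u)
      obtain ⟨f', hnorm, hle'⟩ := normalSubpair_of_le hM hPe hleb (Subgroup.zpowers_le.2 hzu)
        (Subgroup.zpowers_le.2 huP) (fun x hx => centralizer_le_normalizer' _ (by
          rw [DihedralDefect.centralizer_zpowers]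
          exact Subgroup.mem_centralizer_singleton_iff.2
            (h.z_commute (Subgroup.zpowers_le.2 huP hx)).symm.eq))
      obtain rfl : f' = f := by
        have := eq_of_subpairLE hM hPe (b := ⟨Subgroup.zpowers u, f⟩) hle' hle rfl
        simpa using this
      have hu : ∃ k : ℕ, orderOf u = 2 ^ k := by
        obtain ⟨k, hk⟩ := IsPGroup.iff_orderOf.1 h.isPGroup ⟨u, huP⟩
        exact ⟨k, by rwa [Subgroup.orderOf_mk] at hk⟩
      intro y hy
      refine Eq.trans (Star.blockPart_congr_regular hM hnorm.2.1.2 (fun v hv => ?_) hy)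
        (partZero_of_blockPart_eq_zero hM hu hnorm (hcl w) h0 y hy)
      refine (if_pos ?_).symm
      have hc : Commute u (v : G) := Subgroup.mem_centralizer_iff.1 v.2 u (Subgroup.mem_zpowers u)
      have hpart : IsPPart 2 (u * (v : G)) u :=
        ⟨(v : G), rfl, hc, hu, by rwa [Subgroup.orderOf_coe]⟩
      obtain ⟨i, hi⟩ := (mem_powers_iff_mem_zpowers.2
        (Subgroup.zpowers_le.2 (mem_zpowers_pPart hpart) hzu) :
          σ ^ (2 * r) ∈ Submonoid.powers (u * (v : G)))
      exact ⟨i, hi⟩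
    have hmain : ∀ (v : BrauerPairIdx G) (u : G),
        Relation.ReflTransGen (NormalSubpairRel 2 M) v ⟨P, c⟩ → v.1 = Subgroup.zpowers u →
        u ≠ 1 → PartZero (phiMap B w) v u := by
      rintro ⟨Q, f⟩ u hle (rfl : Q = Subgroup.zpowers u) hu1
      have huP : u ∈ P := le_of_subpairLE hle (Subgroup.mem_zpowers u)
      rcases h.z_mem_or_involution huP hu1 with hzu | ⟨hnσ, hsq⟩
      · exact hA u f hle hzu
      obtain ⟨y, hy, hyτ⟩ := h.exists_conj_eq_τ huP hnσ hsq
      have hle1 := subpairLE_conjPair y hle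
      rw [conjPair_of_mem hy] at hle1
      have e1 : conjPair y ⟨Subgroup.zpowers u, f⟩ = ⟨Subgroup.zpowers τ, fτ⟩ :=
        eq_of_subpairLE hM hPe hle1 hleτ (by
          show (Subgroup.zpowers u).map _ = Subgroup.zpowers τ
          rw [MonoidHom.map_zpowers, ← hyτ]
          rfl)
      have e2 : conjPair g₀ ⟨Subgroup.zpowers τ, fτ⟩ = ⟨Subgroup.zpowers (σ ^ (2 * r)), b⟩ :=
        eq_of_subpairLE hM hPe hfus hleb (by
          show (Subgroup.zpowers τ).map _ = Subgroup.zpowers (σ ^ (2 * r))
          rw [MonoidHom.map_zpowers, ← hg₀]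
          rfl)
      refine PartZero.of_conj (isClassFunction_phiMap B w) (x := g₀ * y) ?_
      rw [conjPair_mul, e1, e2, show g₀ * y * u * (g₀ * y)⁻¹ = σ ^ (2 * r) by
        rw [← hg₀, ← hyτ]; group]
      exact hA _ b hleb (Subgroup.mem_zpowers _)
    refine eq_zero_of_phiMap_eq_zero fun g => ?_
    obtain ⟨u, s, hk, hs, hc, rfl⟩ := exists_decomp (p := 2) g
    by_cases hu1 : u = 1
    · rw [hu1, one_mul]
      exact hw s hs
    have hsC : s ∈ Subgroup.centralizer (Subgroup.zpowers u : Set G) := by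
      rw [DihedralDefect.centralizer_zpowers]
      exact Subgroup.mem_centralizer_singleton_iff.2 hc.symm.eq
    have := Fintype.ofFinite {f : Set (IrrCharacter (Subgroup.centralizer
      (Subgroup.zpowers u : Set G))) // IsPBlock M f}
    have hcl' : IsClassFunction _ fun k : Subgroup.centralizer (Subgroup.zpowers u : Set G) =>
        phiMap B w (u * (k : G)) := fun k y => by
      have hy : Commute u (y : G) :=
        Subgroup.mem_centralizer_iff.1 y.2 u (Subgroup.mem_zpowers u)
      simp only [Subgroup.coe_mul, Subgroup.coe_inv]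
      rw [show u * ((y : G) * k * (y : G)⁻¹) = (y : G) * (u * k) * (y : G)⁻¹ by
        simp only [← mul_assoc, hy.eq]]
      exact isClassFunction_phiMap B w _ _
    show (fun k : Subgroup.centralizer (Subgroup.zpowers u : Set G) => phiMap B w (u * (k : G)))
      ⟨s, hsC⟩ = 0
    refine (sum_blockPart (M := M) hcl' ⟨s, hsC⟩).symm.trans ?_
    refine Finset.sum_eq_zero fun f _ => ?_
    have hs' : ¬ 2 ∣ orderOf (⟨s, hsC⟩ : Subgroup.centralizer (Subgroup.zpowers u : Set G)) := by
      rwa [Subgroup.orderOf_mk]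
    by_cases hf : IsBrauerPairOf 2 M B (Subgroup.zpowers u) f.1
    · obtain ⟨x, hx⟩ := exists_conj_le hM hmax hf
      exact PartZero.of_conj (w := ⟨Subgroup.zpowers u, f.1⟩) (isClassFunction_phiMap B w)
        (hmain _ _ hx (by
          show (Subgroup.zpowers u).map _ = _
          rw [MonoidHom.map_zpowers]
          rfl) fun e => hu1 (conj_eq_one_iff.1 e)) _ hs'
    · exact partZero_of_not_pairOf hM hB hk f.2 hf w _ hs'
  have hle := LinearMap.finrank_le_finrank_of_injective
    (f := (R.comp (LinearMap.ker (regMap 2 B)).subtype).codRestrict (kerAt b τH)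
      fun w => hRW w.1) (by
    rw [← LinearMap.ker_eq_bot, LinearMap.ker_eq_bot']
    exact fun w hw => Subtype.ext (hinj w.1 w.2 (congrArg Subtype.val hw)))
  have h2 := blockRank_add_ker (p := 2) (B := B)
  omega

end CfsgLib.Blocks.SemiDefect
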