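import Cfsg.Agent.Lib.Blocks.SemiDefect.Restrict

/-!
# At most one member lies outside the supports of the vectors

The parts at an involution of the members form a vector orthogonal to both families of vectors
and to the rows. At a major subsection it is nowhere zero; at a subsection whose block has a Klein
four defect group and one irreducible Brauer character it is, up to a factor, a sign on each of the
four members of height zero and zero elsewhere. Neither is possible next to two rows, when `k - l`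
is `2 r + 1` in the first case.
-/

set_option autoImplicit false

namespace CfsgLib.Blocks.SemiDefect

open Cfsg CfsgLib.Blocks CfsgLib.Char CfsgLib.Pairs CfsgLib.Star CfsgLib.Blocks.DihedralDefect
  CfsgLib.Blocks.QuaternionDefect
open scoped Classical ComplexConjugate

/-- Two orthogonal rows leave no room for a third vector of signs. -/
theorem no_third_sign {ι : Type*} {S : Finset ι} {x y : ℕ → ι → ℤ} {r : ℕ} {deg : ι → ℤ}
    (T : Data S x y r deg) (h2 : 2 ≤ r) {t t' : ι} {v v' d : ι → ℤ} (hne : t ≠ t')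
    (hv : IsRow S x y r t v) (hv' : IsRow S x y r t' v') (horth : ∑ u ∈ S, v u * v' u = 0)
    (hd : ∀ u ∈ longSupp S x r, d u = 1 ∨ d u = -1)
    (hd0 : ∀ u ∈ S, u ∉ longSupp S x r → d u = 0)
    (hdX : ∀ i ∈ Finset.Icc 1 r, ∑ u ∈ S, x i u * d u = 0)
    (hdv : ∑ u ∈ S, v u * d u = 0) (hdv' : ∑ u ∈ S, v' u * d u = 0) : False := by
  obtain ⟨P, e, s, hX⟩ := T.tab.exists_shape
  set A := longSupp S x r with hA
  have h1 : 1 ∈ Finset.Ico 1 r := Finset.mem_Ico.2 ⟨le_rfl, by omega⟩
  obtain ⟨a, b, hab, hP⟩ := Finset.card_eq_two.1 (hX.card 1 h1)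
  obtain ⟨c, f, hcf, hQ⟩ := Finset.card_eq_two.1 (show (A \ P 1).card = 2 by
    rw [hA, Finset.card_sdiff_of_subset (hX.sub 1 h1), hX.card 1 h1, T.tab.card_longSupp])
  have hAS : A ⊆ S := Finset.filter_subset _ _
  have hsum : ∀ g : ι → ℤ, ∑ u ∈ A, g u = g a + g b + (g c + g f) := fun g => by
    rw [← Finset.sum_sdiff (hX.sub 1 h1), ← hA, hQ, hP, Finset.sum_pair hcf, Finset.sum_pair hab]
    ring
  have hmem : a ∈ A ∧ b ∈ A ∧ c ∈ A ∧ f ∈ A := by
    refine ⟨hX.sub 1 h1 (by simp [hP]), hX.sub 1 h1 (by simp [hP]), ?_, ?_⟩ <;>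
      exact (Finset.mem_sdiff.1 (hQ.ge (by simp))).1
  have hsq : ∀ u ∈ A, x r u * x r u = 1 := fun u hu => by
    rcases (T.tab.abs_q (Finset.mem_filter.1 hu).1).resolve_left (Finset.mem_filter.1 hu).2
      with e' | e' <;> simp [e']
  -- products over the long support
  have hdot : ∀ g g' : ι → ℤ, ∑ u ∈ S, g u * g' u = 0 →
      (∀ u ∈ S, u ∉ A → g u * g' u = 0) →
      (x r a * g a) * (x r a * g' a) + (x r b * g b) * (x r b * g' b) +
        ((x r c * g c) * (x r c * g' c) + (x r f * g f) * (x r f * g' f)) = 0 := fun g g' h h0 => by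
    rw [← hsum fun u => (x r u * g u) * (x r u * g' u)]
    rw [Finset.sum_congr rfl (g := fun u => g u * g' u) fun u hu => by
      rw [mul_mul_mul_comm, hsq u hu, one_mul]]
    rw [Finset.sum_subset hAS h0, h]
  have hpair : ∀ {w : ι} {g : ι → ℤ}, IsRow S x y r w g →
      x r a * g a + x r b * g b = 0 ∧ x r c * g c + x r f * g f = 0 := fun {w g} hg => by
    have e1 := hg.sum_pair_eq hX T h1
    have e2 := hg.sum_long T
    rw [← hA, hsum] at e2
    rw [hP, Finset.sum_pair hab] at e1
    exact ⟨e1, by linarith⟩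
  have hd1 : x r a * d a + x r b * d b = 0 := by
    have h := hdX 1 (Finset.mem_Icc.2 ⟨le_rfl, by omega⟩)
    rw [T.sum_x_mul hX h1, hd0 _ (hX.mem 1 h1) (hX.notMem 1 h1), mul_zero, add_zero, hP,
      Finset.sum_pair hab] at h
    exact h
  have hd2 : x r c * d c + x r f * d f = 0 := by
    have h := hdX r T.tab.q_mem
    rw [T.sum_r_mul, ← hA, hsum fun u => x r u * d u] at h
    linarith
  obtain ⟨rv1, rv2⟩ := hpair hv
  obtain ⟨rw1, rw2⟩ := hpair hv'
  have hzero : ∀ u ∈ S, u ∉ A → v u * v' u = 0 := fun u hu huA => by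
    by_cases e' : u = t
    · rw [hv'.zero u hu huA (e' ▸ hne), mul_zero]
    · rw [hv.zero u hu huA e', zero_mul]
  have e12 := hdot v v' horth hzero
  have e13 := hdot v d hdv fun u hu huA => by rw [hd0 u hu huA, mul_zero]
  have e23 := hdot v' d hdv' fun u hu huA => by rw [hd0 u hu huA, mul_zero]
  have hx : ∀ u ∈ A, x r u * d u = 1 ∨ x r u * d u = -1 := fun u hu => by
    rcases (T.tab.abs_q (Finset.mem_filter.1 hu).1).resolve_left (Finset.mem_filter.1 hu).2
      with p | p <;> rcases hd u hu with q | q <;> simp [p, q]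
  rw [show x r b * v b = -(x r a * v a) by omega, show x r f * v f = -(x r c * v c) by omega] at e12 e13
  rw [show x r b * v' b = -(x r a * v' a) by omega,
    show x r f * v' f = -(x r c * v' c) by omega] at e12 e23
  rw [show x r b * d b = -(x r a * d a) by omega, show x r f * d f = -(x r c * d c) by omega]
    at e13 e23
  rcases hv.prod_unit T hmem.1 with p1 | p1 <;> rcases hv.prod_unit T hmem.2.2.1 with p2 | p2 <;>
    rcases hv'.prod_unit T hmem.1 with p3 | p3 <;> rcases hv'.prod_unit T hmem.2.2.1 with p4 | p4 <;>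
    rcases hx a hmem.1 with p5 | p5 <;> rcases hx c hmem.2.2.1 with p6 | p6 <;>
    rw [p1, p2, p3, p4] at e12 <;> rw [p1, p2, p5, p6] at e13 <;> rw [p3, p4, p5, p6] at e23 <;>
    omega

variable {G : Type*} [Group G] [Fintype G] {M : Ideal AlgInt} [M.IsPrime] [Fact (Nat.Prime 2)]
  {B : Set (IrrCharacter G)}

/-- The signs at an involution whose block has four members equal on the regular elements. -/
theorem exists_signs (hM : IsPModular 2 M) {u : G} (hu : orderOf u = 2)
    {f : Set (IrrCharacter (Subgroup.centralizer (Subgroup.zpowers u : Set G)))}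
    (hf : IsPBlock M f) (h4 : Nat.card f = 4) (heq : KleinIso.EqOnRegular f)
    (hind : IsInducedBlock M (Subgroup.centralizer (Subgroup.zpowers u : Set G)) f B)
    (A : Finset (IrrCharacter G))
    (hA : ∀ a ∈ A, a ∈ B ∧ blockHeight 2 B (a : G → ℂ) = 0) (hA4 : A.card = 4) :
    ∃ (d : IrrCharacter G → ℤ) (φ : ℂ), φ ≠ 0 ∧
      (∀ χ : IrrCharacter G, blockPart f (fun k : Subgroup.centralizer
        (Subgroup.zpowers u : Set G) => (χ : G → ℂ) (u * (k : G))) 1 = (d χ : ℂ) * φ) ∧
      (∀ a ∈ A, d a = 1 ∨ d a = -1) ∧ ∀ χ : IrrCharacter G, χ ∉ A → d χ = 0 := by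
  have := Fintype.ofFinite (IrrCharacter G)
  obtain ⟨η₀, hη₀⟩ := IsPBlock.nonempty hf
  have hk : ∃ k : ℕ, orderOf u = 2 ^ k := ⟨1, by rw [hu, pow_one]⟩
  have huC : u ∈ Subgroup.centralizer (Subgroup.zpowers u : Set G) := by
    rw [DihedralDefect.centralizer_zpowers]
    exact Subgroup.mem_centralizer_singleton_iff.2 rfl
  have hcen : ∀ g : Subgroup.centralizer (Subgroup.zpowers u : Set G),
      g * ⟨u, huC⟩ = ⟨u, huC⟩ * g := fun g =>
    Subtype.ext (Subgroup.mem_centralizer_iff.1 g.2 u (Subgroup.mem_zpowers u)).symm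
  have hu2 : u * u = 1 := by rw [← pow_two, ← hu, pow_orderOf_eq_one]
  have hint : ∀ (χ : IrrCharacter G)
      (η : IrrCharacter (Subgroup.centralizer (Subgroup.zpowers u : Set G))), ∃ m : ℤ,
      classInner (fun k : Subgroup.centralizer (Subgroup.zpowers u : Set G) =>
        (χ : G → ℂ) (u * (k : G)))
        (η : Subgroup.centralizer (Subgroup.zpowers u : Set G) → ℂ) = (m : ℂ) := fun χ η => by
    obtain ⟨n, hn⟩ := Char.IsChar.classInner_eq_natCast
      (Char.IsChar.restrict (Subgroup.centralizer (Subgroup.zpowers u : Set G))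
        (Char.IsIrr.isCharacter χ.2)) (Char.IsIrr.isCharacter η.2)
    have h := classInner_translate (fun k : Subgroup.centralizer (Subgroup.zpowers u : Set G) =>
      (χ : G → ℂ) (k : G)) η hcen
    have hsq := apply_central_mul η hcen ⟨u, huC⟩
    rw [show (⟨u, huC⟩ : Subgroup.centralizer (Subgroup.zpowers u : Set G)) * ⟨u, huC⟩ = 1 from
      Subtype.ext hu2] at hsq
    have h1 := Char.IsIrr.apply_one_ne_zero η.2
    rcases mul_self_eq_mul_self_iff.1 hsq.symm with e | e
    · exact ⟨n, by rw [e, div_self h1, one_mul] at h; rw [Int.cast_natCast, ← hn]; exact h⟩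
    · exact ⟨-n, by
        rw [e, neg_div, div_self h1, neg_one_mul] at h
        rw [Int.cast_neg, Int.cast_natCast, ← hn]; exact h⟩
  choose m hm using hint
  set d : IrrCharacter G → ℤ := fun χ => ∑ η ∈ (Set.toFinite f).toFinset, m χ η with hd
  set φ : ℂ := (η₀ : Subgroup.centralizer (Subgroup.zpowers u : Set G) → ℂ) 1 with hφ
  have hφ0 : φ ≠ 0 := Char.IsIrr.apply_one_ne_zero η₀.2
  have hpart : ∀ (χ : IrrCharacter G) (y : Subgroup.centralizer (Subgroup.zpowers u : Set G)),
      ¬ 2 ∣ orderOf y → blockPart f (fun k : Subgroup.centralizer (Subgroup.zpowers u : Set G) =>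
        (χ : G → ℂ) (u * (k : G))) y =
        (d χ : ℂ) * (η₀ : Subgroup.centralizer (Subgroup.zpowers u : Set G) → ℂ) y := fun χ y hy => by
    rw [blockPart_eq_sum_mul heq hη₀ _ hy, hd]
    congr 1
    exact (Finset.sum_congr rfl fun η _ => hm χ η).trans (Int.cast_sum _ _).symm
  have hone : ¬ 2 ∣ orderOf (1 : Subgroup.centralizer (Subgroup.zpowers u : Set G)) := by simp
  have hnorm : ∑ χ : IrrCharacter G, d χ ^ 2 = 4 := by
    have key : ∀ (H : Subgroup G), H = Subgroup.centralizer ({u} : Set G) →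
        ∀ g : Set (IrrCharacter H), IsPBlock M g →
          ∑ χ : IrrCharacter G, blockPart g (fun k : H => (χ : G → ℂ) (u * (k : G))) 1 *
              conj (blockPart g (fun k : H => (χ : G → ℂ) (u * (k : G))) 1) =
            ∑ ψ ∈ (Set.toFinite g).toFinset, (ψ : H → ℂ) 1 * conj ((ψ : H → ℂ) 1) := by
      rintro H rfl g hg
      exact sum_all_blockPart_norm hM hk hg (by rw [orderOf_one]; decide)
    have h := key _ (DihedralDefect.centralizer_zpowers u) f hf
    have hφr : conj φ = φ := by rw [hφ, apply_one_eq_charDegree, map_natCast]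
    have hR : ∑ ψ ∈ (Set.toFinite f).toFinset,
        (ψ : Subgroup.centralizer (Subgroup.zpowers u : Set G) → ℂ) 1 *
          conj ((ψ : Subgroup.centralizer (Subgroup.zpowers u : Set G) → ℂ) 1) = 4 * (φ * φ) := by
      rw [Finset.sum_congr rfl (g := fun _ => φ * φ) fun η hη => by
          rw [heq η ((Set.Finite.mem_toFinset _).1 hη) η₀ hη₀ 1 hone, ← hφ, hφr],
        Finset.sum_const, ← Set.ncard_eq_toFinset_card f (Set.toFinite f), ← Nat.card_coe_set_eq,
        h4, nsmul_eq_mul, Nat.cast_ofNat]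
    rw [hR, Finset.sum_congr rfl (g := fun χ : IrrCharacter G => ((d χ ^ 2 : ℤ) : ℂ) * (φ * φ))
        fun χ _ => by
          rw [hpart χ 1 hone, ← hφ, map_mul, map_intCast, hφr]
          push_cast
          ring,
      ← Finset.sum_mul, mul_left_inj' (mul_ne_zero hφ0 hφ0)] at h
    exact_mod_cast h
  have hne : ∀ a ∈ A, d a ≠ 0 := fun a ha h0 => by
    obtain ⟨y, hy, hne⟩ := Star.exists_part_ne_zero_height_zero hM hk
      (DihedralDefect.centralizer_zpowers u) hind (hA a ha).1 (hA a ha).2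
    exact hne (by rw [hpart a y hy, h0, Int.cast_zero, zero_mul])
  have h1 : ∀ a ∈ A, (1 : ℤ) ≤ d a ^ 2 := fun a ha => sq_pos_of_ne_zero (hne a ha)
  have hge : (4 : ℤ) ≤ ∑ a ∈ A, d a ^ 2 := by
    calc (4 : ℤ) = ∑ _a ∈ A, (1 : ℤ) := by simp [hA4]
      _ ≤ _ := Finset.sum_le_sum h1
  have hsplit := Finset.sum_sdiff (Finset.subset_univ A) (f := fun χ => d χ ^ 2)
  rw [hnorm] at hsplit
  have hrest : (0 : ℤ) ≤ ∑ χ ∈ Finset.univ \ A, d χ ^ 2 := Finset.sum_nonneg fun _ _ => sq_nonneg _
  refine ⟨d, φ, hφ0, fun χ => hpart χ 1 hone, fun a ha => sq_eq_one_iff.1 ?_, fun χ hχ => ?_⟩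
  · have h2 : ∑ a ∈ A, (d a ^ 2 - 1) = 0 := by
      rw [Finset.sum_sub_distrib, Finset.sum_const, hA4, nsmul_eq_mul]
      push_cast
      linarith
    exact sub_eq_zero.1
      ((Finset.sum_eq_zero_iff_of_nonneg fun b hb => sub_nonneg.2 (h1 b hb)).1 h2 a ha)
  · have h2 := (Finset.sum_eq_zero_iff_of_nonneg fun χ _ => sq_nonneg (d χ)).1
      (show ∑ χ ∈ Finset.univ \ A, d χ ^ 2 = 0 by linarith) χ
      (Finset.mem_sdiff.2 ⟨Finset.mem_univ _, hχ⟩)
    simpa using h2

variable {K : Subgroup G} {b : Set (IrrCharacter K)} {D : Subgroup K} {σ τ : K} {r : ℕ}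
  {l : Subgroup.zpowers σ →* ℂˣ}
  {e : Set (IrrCharacter (Subgroup.centralizer (D : Set K)))} {F : FusionSystem D}
  {ξ₀ : IrrCharacter K} {Φ : IrrCharacter D ≃ b} [Fintype (IrrCharacter D)]
  (C : Ctx M B b D σ τ r l e F ξ₀ Φ)
include C

/-- The parts at an involution are orthogonal to the vectors and to the regular values. -/
theorem Ctx.sum_part {u : G} (hu : orderOf u = 2)
    {f : Set (IrrCharacter (Subgroup.centralizer (Subgroup.zpowers u : Set G)))}
    (hf : IsPBlock M f) {y : Subgroup.centralizer (Subgroup.zpowers u : Set G)}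
    (hy : ¬ 2 ∣ orderOf y) :
    (∀ g : G, ¬ 2 ∣ orderOf g → ∑ χ ∈ mems B, blockPart f (fun k : Subgroup.centralizer
        (Subgroup.zpowers u : Set G) => (χ : G → ℂ) (u * (k : G))) y * (χ : G → ℂ) g = 0) ∧
      ∀ (h : K → ℂ), Adm D σ h → ∀ v : IrrCharacter G → ℤ,
        (∀ χ : IrrCharacter G, classInner (indFun K (comb Φ h)) (χ : G → ℂ) = v χ) →
        ∑ χ ∈ mems B, (v χ : ℂ) * blockPart f (fun k : Subgroup.centralizer
          (Subgroup.zpowers u : Set G) => (χ : G → ℂ) (u * (k : G))) y = 0 := by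
  have hM := C.loc.modular
  have horder : ∀ k : Subgroup.centralizer (Subgroup.zpowers u : Set G), ¬ 2 ∣ orderOf k →
      orderOf (u * (k : G)) = 2 * orderOf (k : G) := fun k hk => by
    have hc : Commute u (k : G) := Subgroup.mem_centralizer_iff.1 k.2 u (Subgroup.mem_zpowers u)
    rw [hc.orderOf_mul_eq_mul_orderOf_of_coprime (by
      rw [hu]
      exact (Nat.Prime.coprime_iff_not_dvd Nat.prime_two).2 (by rwa [Subgroup.orderOf_coe])), hu]
  have key : ∀ a : IrrCharacter G → ℂ,
      (∀ k : Subgroup.centralizer (Subgroup.zpowers u : Set G), ¬ 2 ∣ orderOf k →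
        ∑ χ ∈ mems B, a χ * (χ : G → ℂ) (u * (k : G)) = 0) →
      ∑ χ ∈ mems B, a χ * blockPart f (fun k : Subgroup.centralizer
        (Subgroup.zpowers u : Set G) => (χ : G → ℂ) (u * (k : G))) y = 0 := fun a ha => by
    rw [← blockPart_combination f (mems B) a
      (fun χ (k : Subgroup.centralizer (Subgroup.zpowers u : Set G)) =>
        (χ : G → ℂ) (u * (k : G))) y,
      Star.blockPart_congr_regular hM hf (φ' := fun _ => 0) ha hy, blockPart_zero]
  refine ⟨fun g hg => ?_, fun h hh v hv => key (fun χ => (v χ : ℂ)) fun k hk => ?_⟩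
  · rw [Finset.sum_congr rfl fun χ _ => mul_comm _ _]
    refine key (fun χ => (χ : G → ℂ) g) fun k hk => ?_
    have h1 := sum_block_regular_singular hM C.block hg
      (show 2 ∣ orderOf (u * (k : G)) from horder k hk ▸ dvd_mul_right _ _)
    rwa [finsum_mem_eq_finite_toFinset_sum _ (Set.toFinite B)] at h1
  · have h1 := congrFun (C.indFun_eq_sum hh v hv) (u * (k : G))
    simp only [Finset.sum_apply, Pi.smul_apply, smul_eq_mul] at h1
    rw [← h1]
    refine DihedralDefect.indFun_eq_zero_of_not_supp (C.supp_comb hh) fun x hx => ?_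
    obtain ⟨m, hm⟩ := hx
    have h2 : orderOf ((σ ^ r : K) : G) ∣ orderOf (x⁻¹ * (u * (k : G)) * x) := hm ▸ orderOf_pow_dvd m
    have h3 := MulEquiv.orderOf_eq (MulAut.conj x⁻¹) (u * (k : G))
    rw [MulAut.conj_apply, inv_inv] at h3
    rw [C.a_ord, h3, horder k hk, Subgroup.orderOf_coe] at h2
    exact hk (Nat.dvd_of_mul_dvd_mul_left (show 0 < 2 by norm_num) (by simpa using h2))

/-- The case of a block with four members equal on the regular elements. -/
theorem Ctx.rem_le_one_of_klein {u : G}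
    (hu : orderOf u = 2)
    {f : Set (IrrCharacter (Subgroup.centralizer (Subgroup.zpowers u : Set G)))}
    (hf : IsPBlock M f) (h4 : Nat.card f = 4) (heq : KleinIso.EqOnRegular f)
    (hind : IsInducedBlock M (Subgroup.centralizer (Subgroup.zpowers u : Set G)) f B) :
    (rem (mems B) C.X C.Y r).card ≤ 1 := by
  have hM := C.loc.modular
  obtain ⟨d, φ, hφ, hpart, hdA, hd0⟩ := exists_signs hM hu hf h4 heq hind
    (longSupp (mems B) C.X r)
    (fun a ha => ⟨C.long_subset ha, (C.height_zero_iff (C.long_subset ha)).2 ha⟩)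
    C.data.tab.card_longSupp
  obtain ⟨hreg, hvec⟩ := C.sum_part hu hf (y := 1) (by simp)
  obtain ⟨v, hv, horth, hz⟩ := C.exists_rows
  by_contra hcon
  push Not at hcon
  obtain ⟨t, ht, t', ht', hne⟩ := Finset.one_lt_card.1 hcon
  have hdreg : ∀ g : G, ¬ 2 ∣ orderOf g → ∑ χ ∈ mems B, (d χ : ℂ) * (χ : G → ℂ) g = 0 :=
    fun g hg => by
      refine mul_left_cancel₀ hφ ?_
      rw [mul_zero, Finset.mul_sum, ← hreg g hg]
      exact Finset.sum_congr rfl fun χ _ => by rw [hpart]; ring
  have hrow : ∀ s ∈ rem (mems B) C.X C.Y r, ∑ χ ∈ mems B, v s χ * d χ = 0 := fun s hs => by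
    refine Int.cast_injective (α := ℂ) ?_
    refine mul_left_cancel₀ (pow_ne_zero (CharAction.degVal 2 (s : G → ℂ))
      (two_ne_zero : (2 : ℂ) ≠ 0)) ?_
    push_cast
    rw [mul_zero, Finset.mul_sum,
      Finset.sum_congr rfl (g := fun χ => ((2 ^ (Nat.card G).factorization 2 : ℕ) : ℂ) *
        ((d χ : ℂ) * zEntry 2 s χ)) fun χ _ => by
          rw [mul_left_comm ((2 ^ (Nat.card G).factorization 2 : ℕ) : ℂ), (hz s hs).2 χ]; ring,
      ← Finset.mul_sum, orth_regular (fun χ => (d χ : ℂ)) (mems B) hdreg s, mul_zero]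
  refine no_third_sign C.data C.semi.two_le hne (hv t ht) (hv t' ht') (horth t ht t' ht' hne) hdA
    (fun χ _ h => hd0 χ h) (fun i _ => ?_) (hrow t ht) (hrow t' ht')
  refine Int.cast_injective (α := ℂ) (mul_right_cancel₀ hφ ?_)
  push_cast
  rw [zero_mul, Finset.sum_mul, ← hvec _ (C.adm_fX i) _ (C.X_spec i)]
  exact Finset.sum_congr rfl fun χ _ => by rw [hpart]; ring

/-- The vectors are linearly independent, even with complex coefficients. -/
theorem Ctx.coeff_eq_zero_of_gram {a : ℕ → ℂ} {c : ℕ → ℂ}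
    (hX : ∀ j ∈ Finset.Icc 1 r, ∑ i ∈ Finset.Icc 1 r,
      a i * ((2 + (if i = j then 1 else 0) + (if i = r ∧ j = r then 1 else 0) : ℤ) : ℂ) = 0)
    (hY : ∀ j ∈ Finset.Ico 1 r, ∑ i ∈ Finset.Ico 1 r,
      c i * ((1 + (if i = j then 1 else 0) : ℤ) : ℂ) = 0) :
    (∀ i ∈ Finset.Icc 1 r, a i = 0) ∧ ∀ i ∈ Finset.Ico 1 r, c i = 0 := by
  have hr : (r : ℂ) ≠ 0 := Nat.cast_ne_zero.2 (by have := C.semi.one_le; omega)
  constructor
  · set S := ∑ i ∈ Finset.Icc 1 r, a i with hS
    have h : ∀ j ∈ Finset.Icc 1 r, 2 * S + (if j = r then 2 else 1) * a j = 0 := fun j hj => by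
      refine Eq.trans ?_ (hX j hj)
      rw [hS, Finset.mul_sum, ← Finset.sum_ite_eq' (Finset.Icc 1 r) j
        (fun i => (if j = r then (2 : ℂ) else 1) * a i) |>.trans (if_pos hj),
        ← Finset.sum_add_distrib]
      refine Finset.sum_congr rfl fun i _ => ?_
      by_cases h1 : i = j
      · subst h1
        by_cases h2 : i = r <;> simp [h2] <;> ring
      · simp [h1, show ¬ (i = r ∧ j = r) from fun h => h1 (h.1.trans h.2.symm)]
        ring
    have hS0 : S = 0 := by
      have hsum : ∑ j ∈ Finset.Icc 1 r, a j = ∑ j ∈ Finset.Icc 1 r,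
          ((if j = r then 1 else 0) * S - 2 * S) := Finset.sum_congr rfl fun j hj => by
        have := h j hj
        split_ifs at this ⊢ with hjr
        · linear_combination (1 / 2 : ℂ) * this
        · linear_combination this
      rw [← hS, Finset.sum_sub_distrib, ← Finset.sum_mul, Finset.sum_ite_eq',
        if_pos C.data.tab.q_mem, Finset.sum_const, Nat.card_Icc, nsmul_eq_mul,
        Nat.add_sub_cancel, one_mul] at hsum
      have h2 : (r : ℂ) * (2 * S) = 0 := by linear_combination hsum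
      simpa [hr] using h2
    intro j hj
    have := h j hj
    rw [hS0, mul_zero, zero_add] at this
    refine (mul_eq_zero.1 this).resolve_left ?_
    split_ifs <;> norm_num
  · set S := ∑ i ∈ Finset.Ico 1 r, c i with hS
    have h : ∀ j ∈ Finset.Ico 1 r, S + c j = 0 := fun j hj => by
      refine Eq.trans ?_ (hY j hj)
      rw [hS, ← Finset.sum_ite_eq' (Finset.Ico 1 r) j (fun i => c i) |>.trans (if_pos hj),
        ← Finset.sum_add_distrib]
      refine Finset.sum_congr rfl fun i _ => ?_
      by_cases h1 : i = j <;> simp [h1] <;> ring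
    have hS0 : S = 0 := by
      have hsum : ∑ j ∈ Finset.Ico 1 r, (S + c j) = 0 := Finset.sum_eq_zero h
      rw [Finset.sum_add_distrib, Finset.sum_const, Nat.card_Ico, nsmul_eq_mul, ← hS,
        Nat.cast_sub C.semi.one_le] at hsum
      push_cast at hsum
      have h2 : (r : ℂ) * S = 0 := by linear_combination hsum
      simpa [hr] using h2
    intro j hj
    have := h j hj
    rwa [hS0, zero_add] at this

/-- The case of a major subsection with `k - l` at most `2 r + 1`. -/
theorem Ctx.rem_le_one_of_major (hkl : blockRank 2 B + 2 * r + 1 ≤ Nat.card B)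
    (hku : Nat.card B ≤ blockRank 2 B + 2 * r + 1) {u : G} (hu : orderOf u = 2)
    {f : Set (IrrCharacter (Subgroup.centralizer (Subgroup.zpowers u : Set G)))}
    (hind : IsInducedBlock M (Subgroup.centralizer (Subgroup.zpowers u : Set G)) f B)
    (hd : blockDefect 2 f = blockDefect 2 B) :
    (rem (mems B) C.X C.Y r).card ≤ 1 := by
  have hM := C.loc.modular
  have hf : IsPBlock M f := (isInducedBlock_iff.1 hind).1
  obtain ⟨hdis, -, -, -, -, -⟩ := C.regular hkl
  obtain ⟨v, hv, -, hz⟩ := C.exists_rows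
  by_contra hcon
  push Not at hcon
  obtain ⟨c, hc⟩ := Finset.card_pos.1
    (by rw [C.data.card_cyc C.semi.two_le]; have := C.semi.two_le; omega :
      0 < (cyc (mems B) C.Y r).card)
  have hcS : c ∈ mems B := (Finset.mem_filter.1 hc).1
  obtain ⟨y, hy, hne⟩ := Star.exists_part_ne_zero_major hM ⟨1, by rw [hu, pow_one]⟩
    (DihedralDefect.centralizer_zpowers u) hind hd ((Set.Finite.mem_toFinset _).1 hcS)
  obtain ⟨hreg, hvec⟩ := C.sum_part hu hf hy
  set T : IrrCharacter G → ℂ := fun χ => blockPart f (fun k : Subgroup.centralizer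
    (Subgroup.zpowers u : Set G) => (χ : G → ℂ) (u * (k : G))) y with hT
  set R := rem (mems B) C.X C.Y r with hR
  let q : IrrCharacter G → IrrCharacter G → ℂ := fun t χ =>
    (if χ = t then 1 else 0) - zEntry 2 t χ
  let vec : Finset.Icc 1 r ⊕ Finset.Ico 1 r ⊕ R ⊕ Unit → IrrCharacter G → ℂ :=
    Sum.elim (fun i χ => (C.X i χ : ℂ)) (Sum.elim (fun i χ => (C.Y i χ : ℂ))
      (Sum.elim (fun t => q t) fun _ => T))
  have hker : ∀ i, (fun χ : mems B => vec i χ) ∈ LinearMap.ker (regMap 2 B) := fun i => by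
    rw [LinearMap.mem_ker, regMap_eq_zero_iff]
    intro g hg
    rw [Finset.sum_coe_sort (mems B) (fun χ => vec i χ * (χ : G → ℂ) g)]
    rcases i with i | i | t | _
    · exact C.sum_regular (C.adm_fX i) _ (C.X_spec i) hg
    · exact C.sum_regular (C.adm_fY (Finset.mem_Ico.1 i.2).2) _
        (C.Y_spec (Finset.mem_Ico.1 i.2).2) hg
    · simp only [vec, Sum.elim_inl, Sum.elim_inr, q, sub_mul, Finset.sum_sub_distrib, ite_mul,
        one_mul, zero_mul]
      rw [Finset.sum_ite_eq', if_pos (Finset.mem_filter.1 t.2).1,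
        sum_zEntry_mul hM C.block ((Set.Finite.mem_toFinset _).1 (Finset.mem_filter.1 t.2).1) g,
        regCut, if_neg hg, sub_self]
    · exact hreg g hg
  have hqX : ∀ t ∈ R, ∀ (h : K → ℂ), Adm D σ h → ∀ w : IrrCharacter G → ℤ,
      (∀ χ : IrrCharacter G, classInner (indFun K (comb Φ h)) (χ : G → ℂ) = w χ) → w t = 0 →
      ∑ χ ∈ mems B, (w χ : ℂ) * q t χ = 0 := fun t ht h hh w hw h0 => by
    simp only [q, mul_sub, Finset.sum_sub_distrib, mul_ite, mul_one, mul_zero]
    rw [Finset.sum_ite_eq', if_pos (Finset.mem_filter.1 ht).1,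
      orth_regular (fun χ => (w χ : ℂ)) (mems B) (fun g hg => C.sum_regular hh w hw hg) t, h0,
      Int.cast_zero, sub_zero]
  have hli : LinearIndependent ℂ fun i => (⟨_, hker i⟩ : LinearMap.ker (regMap 2 B)) := by
    rw [Fintype.linearIndependent_iff]
    intro g hg
    have hev : ∀ χ ∈ mems B, ∑ i, g i * vec i χ = 0 := fun χ hχ => by
      have := congrFun (congrArg Subtype.val hg) ⟨χ, hχ⟩
      simpa using this
    simp only [Fintype.sum_sum_type, vec, Sum.elim_inl, Sum.elim_inr, Fintype.sum_unique] at hev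
    set a : ℕ → ℂ := fun i => if h : i ∈ Finset.Icc 1 r then g (Sum.inl ⟨i, h⟩) else 0 with ha
    set c' : ℕ → ℂ := fun i =>
      if h : i ∈ Finset.Ico 1 r then g (Sum.inr (Sum.inl ⟨i, h⟩)) else 0 with hc'
    -- pairing with a vector
    have hpair : ∀ (h : K → ℂ), Adm D σ h → ∀ w : IrrCharacter G → ℤ,
        (∀ χ : IrrCharacter G, classInner (indFun K (comb Φ h)) (χ : G → ℂ) = w χ) →
        (∀ t ∈ R, w t = 0) →
        ∑ i ∈ Finset.Icc 1 r, a i * ((∑ χ ∈ mems B, C.X i χ * w χ : ℤ) : ℂ) +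
          ∑ i ∈ Finset.Ico 1 r, c' i * ((∑ χ ∈ mems B, C.Y i χ * w χ : ℤ) : ℂ) = 0 := by
      intro h hh w hw h0
      have h1 : ∑ χ ∈ mems B, (w χ : ℂ) * ((∑ i : Finset.Icc 1 r, g (Sum.inl i) * (C.X i χ : ℂ)) +
          ((∑ i : Finset.Ico 1 r, g (Sum.inr (Sum.inl i)) * (C.Y i χ : ℂ)) +
            ((∑ t : R, g (Sum.inr (Sum.inr (Sum.inl t))) * q t χ) +
              g (Sum.inr (Sum.inr (Sum.inr default))) * T χ))) = 0 :=
        Finset.sum_eq_zero fun χ hχ => by rw [hev χ hχ, mul_zero]
      simp only [mul_add, Finset.sum_add_distrib, Finset.mul_sum] at h1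
      rw [Finset.sum_comm, Finset.sum_comm (s := mems B) (t := (Finset.univ : Finset R)),
        Finset.sum_comm (s := mems B) (t := (Finset.univ : Finset (Finset.Ico 1 r)))] at h1
      rw [Finset.sum_eq_zero (s := (Finset.univ : Finset R)) (fun t _ => by
          rw [Finset.sum_congr rfl fun χ _ => mul_left_comm _ _ _, ← Finset.mul_sum,
            hqX t t.2 h hh w hw (h0 t t.2), mul_zero]),
        Finset.sum_congr rfl fun χ _ => mul_left_comm _ _ _, ← Finset.mul_sum,
        hvec h hh w hw, mul_zero, add_zero, add_zero] at h1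
      rw [← h1, ← Finset.sum_coe_sort (Finset.Icc 1 r), ← Finset.sum_coe_sort (Finset.Ico 1 r)]
      congr 1 <;> refine Finset.sum_congr rfl fun i _ => ?_ <;>
        simp only [ha, hc', dif_pos i.2, Subtype.coe_eta] <;> push_cast <;>
        rw [Finset.mul_sum] <;> exact Finset.sum_congr rfl fun χ _ => by ring
    obtain ⟨ha0, hc0⟩ := C.coeff_eq_zero_of_gram (a := a) (c := c') (fun j hj => by
      have h := hpair _ (C.adm_fX j) _ (C.X_spec j) fun t ht => not_not.1 fun h0 =>
        (Finset.mem_filter.1 ht).2.1 (Finset.mem_filter.2 ⟨(Finset.mem_filter.1 ht).1, j, hj, h0⟩)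
      rw [Finset.sum_eq_zero (s := Finset.Ico 1 r) (fun i hi => by
        rw [show ∑ χ ∈ mems B, C.Y i χ * C.X j χ = 0 from
          (Finset.sum_congr rfl fun χ _ => mul_comm _ _).trans (C.gram_XY hi),
          Int.cast_zero, mul_zero]), add_zero] at h
      rw [← h]
      exact Finset.sum_congr rfl fun i hi => by rw [C.gram_X hi hj])
      fun j hj => by
      have hjr := (Finset.mem_Ico.1 hj).2
      have h := hpair _ (C.adm_fY hjr) _ (C.Y_spec hjr) fun t ht => not_not.1 fun h0 =>
        (Finset.mem_filter.1 ht).2.2 (Finset.mem_filter.2 ⟨(Finset.mem_filter.1 ht).1, j, hj, h0⟩)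
      rw [Finset.sum_eq_zero (s := Finset.Icc 1 r) (fun i _ => by
        rw [C.gram_XY hj, Int.cast_zero, mul_zero]), zero_add] at h
      rw [← h]
      exact Finset.sum_congr rfl fun i hi => by rw [C.gram_Y hi hj]
    have hgX : ∀ i : Finset.Icc 1 r, g (Sum.inl i) = 0 := fun i => by
      have := ha0 i i.2
      simp only [ha, dif_pos i.2, Subtype.coe_eta] at this
      exact this
    have hgY : ∀ i : Finset.Ico 1 r, g (Sum.inr (Sum.inl i)) = 0 := fun i => by
      have := hc0 i i.2
      simp only [hc', dif_pos i.2, Subtype.coe_eta] at this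
      exact this
    simp only [hgX, hgY, zero_mul, Finset.sum_const_zero, zero_add] at hev
    have hqz : ∀ t ∈ R, ∀ χ ∈ mems B, χ ∉ longSupp (mems B) C.X r → χ ≠ t → q t χ = 0 :=
      fun t ht χ hχ hA hne => by
        have h1 := (hz t ht).2 χ
        rw [(hv t ht).zero χ hχ hA hne, Int.cast_zero, mul_zero] at h1
        simp only [q, if_neg hne, (mul_eq_zero.1 h1).resolve_left (pow_ne_zero' (G := G) (p := 2)),
          sub_self]
    have hcA : c ∉ longSupp (mems B) C.X r := fun h => Finset.disjoint_left.1 hdis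
      (Finset.mem_filter.2 ⟨hcS, r, C.data.tab.q_mem, (Finset.mem_filter.1 h).2⟩) hc
    have hgT : g (Sum.inr (Sum.inr (Sum.inr default))) = 0 := by
      have h := hev c hcS
      rw [Finset.sum_eq_zero (fun t _ => by
        rw [hqz t t.2 c hcS hcA fun e => (Finset.mem_filter.1 t.2).2.2 (e ▸ hc), mul_zero]),
        zero_add, mul_eq_zero] at h
      exact h.resolve_right hne
    have hgR : ∀ t : R, g (Sum.inr (Sum.inr (Sum.inl t))) = 0 := fun t => by
      have htS := (Finset.mem_filter.1 t.2).1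
      have h := hev t htS
      rw [hgT, zero_mul, add_zero, Finset.sum_eq_single t (fun s _ hs => by
        rw [hqz s s.2 t htS (fun h' => (C.height_rem t.2).2
          ((C.height_zero_iff (C.long_subset h')).2 h')) fun e => hs (Subtype.ext e.symm),
          mul_zero]) (fun hn => absurd (Finset.mem_univ _) hn), mul_eq_zero] at h
      refine h.resolve_right fun h0 => ?_
      simp only [q, if_true, sub_eq_zero] at h0
      have h1 := (hz t t.2).2 t
      rw [(hz t t.2).1, ← h0, mul_one] at h1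
      push_cast at h1
      rw [← pow_succ] at h1
      have h2 : (Nat.card G).factorization 2 = CharAction.degVal 2 ((t : IrrCharacter G) : G → ℂ) + 1 :=
        Nat.pow_right_injective le_rfl (a₁ := (Nat.card G).factorization 2) (by exact_mod_cast h1)
      have h3 := CharAction.degVal_eq_add (p := 2) ((Set.Finite.mem_toFinset _).1 htS)
      have h4 := card_eq_minExp_add hM C.block
      have h5 := (C.height_rem t.2).1
      omega
    rintro (i | i | t | ⟨⟩)
    exacts [hgX i, hgY i, hgR t, hgT]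
  have hcard := hli.fintype_card_le_finrank
  have hk := blockRank_add_ker (p := 2) (B := B)
  simp only [Fintype.card_sum, Fintype.card_coe, Nat.card_Icc, Nat.card_Ico, Fintype.card_unit]
    at hcard
  have := C.semi.one_le
  omega

end CfsgLib.Blocks.SemiDefect
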