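import Cfsg.Agent.Lib.Blocks.SemiDefect.Height
import Cfsg.Agent.Lib.Blocks.QuaternionDefect.Invariants

/-!
# The invariants of a block with semidihedral defect group, given two bounds

The first bound is `k - l ≥ 2 r + 1`, the second says that at most one member lies outside the
supports of the vectors.
-/

set_option autoImplicit false

namespace CfsgLib.Blocks.SemiDefect

open Cfsg CfsgLib.Blocks CfsgLib.Char CfsgLib.Pairs CfsgLib.Blocks.DihedralDefect
  CfsgLib.Blocks.QuaternionDefect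
open scoped Classical ComplexConjugate

variable {G : Type*} [Group G] [Fintype G] {M : Ideal AlgInt} [M.IsPrime] [Fact (Nat.Prime 2)]
  {B : Set (IrrCharacter G)}
  {K : Subgroup G} {b : Set (IrrCharacter K)} {D : Subgroup K} {σ τ : K} {r : ℕ}
  {l : Subgroup.zpowers σ →* ℂˣ}
  {e : Set (IrrCharacter (Subgroup.centralizer (D : Set K)))} {F : FusionSystem D}
  {ξ₀ : IrrCharacter K} {Φ : IrrCharacter D ≃ b} [Fintype (IrrCharacter D)]
  (C : Ctx M B b D σ τ r l e F ξ₀ Φ)
include C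

theorem Ctx.sum_deg {f : K → ℂ} (hf : Adm D σ f) (v : IrrCharacter G → ℤ)
    (hv : ∀ χ : IrrCharacter G, classInner (indFun K (comb Φ f)) (χ : G → ℂ) = v χ) :
    ∑ χ ∈ mems B, v χ * (charDegree (χ : G → ℂ) : ℤ) = 0 := by
  have h := C.sum_regular hf v hv (g := 1) (by simp)
  simp only [apply_one_eq_charDegree] at h
  exact_mod_cast h

theorem Ctx.data : Data (mems B) C.X C.Y r fun χ => (charDegree (χ : G → ℂ) : ℤ) :=
  ⟨⟨C.semi.one_le, C.semi.pow_two', fun _ hi _ hj => C.gram_X hi hj,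
    fun j _ => C.sum_deg (C.adm_fX j) _ (C.X_spec j),
    fun χ _ => by exact_mod_cast charDegree_pos χ⟩,
    fun _ hi _ hj => C.gram_Y hi hj, fun j hj => C.sum_deg (C.adm_fY (Finset.mem_Ico.1 hj).2) _ (C.Y_spec (Finset.mem_Ico.1 hj).2),
    fun _ _ _ hj => C.gram_XY hj⟩

/-- The long support, inside the block. -/
theorem Ctx.long_subset {χ : IrrCharacter G} (h : χ ∈ longSupp (mems B) C.X r) : χ ∈ B :=
  (Set.Finite.mem_toFinset _).1 (Finset.mem_filter.1 h).1

theorem Ctx.deg1_parity (χ : IrrCharacter G) : 2 ∣ (C.deg1 χ : ℤ) + C.X r χ := by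
  have h := dvd_trans (dvd_mul_right (2 : ℤ) (r : ℤ)) (C.dvd_deg1_vectors χ)
  exact (dvd_add_left (dvd_mul_right _ _)).1 h

theorem Ctx.odd_deg1 {χ : IrrCharacter G} (h : χ ∈ longSupp (mems B) C.X r) : Odd (C.deg1 χ) := by
  have h1 := C.deg1_parity χ
  rw [← Int.odd_coe_nat]
  rcases (C.data.tab.abs_q (Finset.mem_filter.1 h).1).resolve_left (Finset.mem_filter.1 h).2
    with e' | e' <;> rw [e'] at h1 <;> rw [Int.odd_iff] <;> omega

theorem Ctx.height_data {χ : IrrCharacter G} (hχ : χ ∈ B) :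
    C.deg1 χ ≠ 0 ∧ blockHeight 2 B (χ : G → ℂ) = (C.deg1 χ).factorization 2 := by
  obtain ⟨a, ha⟩ := Finset.card_pos.1
    (by rw [C.data.tab.card_longSupp]; norm_num : 0 < (longSupp (mems B) C.X r).card)
  exact C.height_eq (C.long_subset ha) (C.odd_deg1 ha) hχ

theorem Ctx.height_zero_iff {χ : IrrCharacter G} (hχ : χ ∈ B) :
    blockHeight 2 B (χ : G → ℂ) = 0 ↔ χ ∈ longSupp (mems B) C.X r := by
  obtain ⟨hne, hh⟩ := C.height_data hχ
  rw [hh, Nat.factorization_eq_zero_iff]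
  constructor
  · intro h
    have h2 : ¬ 2 ∣ C.deg1 χ := by
      rcases h with h | h | h
      · exact absurd Nat.prime_two h
      · exact h
      · exact absurd h hne
    refine Finset.mem_filter.2 ⟨(Set.Finite.mem_toFinset _).2 hχ, fun h0 => h2 ?_⟩
    have h1 := C.deg1_parity χ
    rw [h0, add_zero] at h1
    exact_mod_cast h1
  · intro h
    exact Or.inr (Or.inl (Nat.two_dvd_ne_zero.2 (Nat.odd_iff.1 (C.odd_deg1 h))))

theorem Ctx.height_one {χ : IrrCharacter G} (hχ : χ ∈ B) (hr : 2 ≤ r)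
    (hA : χ ∉ longSupp (mems B) C.X r)
    (h : Odd (∑ i ∈ Finset.Ico 1 r, C.X i χ - ∑ i ∈ Finset.Ico 1 r, C.Y i χ)) :
    blockHeight 2 B (χ : G → ℂ) = 1 := by
  obtain ⟨hne, hh⟩ := C.height_data hχ
  obtain ⟨n, hn⟩ := C.semi.pow_two'
  have h4 : (4 : ℤ) ∣ 2 * (r : ℤ) := by
    rcases n with _ | n
    · simp at hn; omega
    · exact ⟨(2 ^ n : ℕ), by rw [hn]; push_cast; ring⟩
  have h1 := h4.trans (C.dvd_deg1_vectors χ)
  have h0 : C.X r χ = 0 :=
    not_not.1 fun h0 => hA (Finset.mem_filter.2 ⟨(Set.Finite.mem_toFinset _).2 hχ, h0⟩)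
  obtain ⟨m, hm⟩ := h
  rw [h0, hm] at h1
  have h2 : C.deg1 χ % 4 = 2 := by omega
  rw [hh]
  obtain ⟨w, hw, hw2⟩ := exists_factorization (p := 2) hne
  set k := (C.deg1 χ).factorization 2
  rcases k with _ | _ | k
  · simp at hw; omega
  · rfl
  · rw [hw, pow_succ, pow_succ] at h2
    have : 4 ∣ 2 ^ k * 2 * 2 * w := ⟨2 ^ k * w, by ring⟩
    omega

theorem Ctx.height_rem {χ : IrrCharacter G} (h : χ ∈ rem (mems B) C.X C.Y r) :
    blockHeight 2 B (χ : G → ℂ) + 2 = blockDefect 2 B ∧ blockHeight 2 B (χ : G → ℂ) ≠ 0 := by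
  obtain ⟨hS, hc, hy⟩ := Finset.mem_filter.1 h
  have hχ : χ ∈ B := (Set.Finite.mem_toFinset _).1 hS
  obtain ⟨hne, hh⟩ := C.height_data hχ
  have hX : ∀ i ∈ Finset.Icc 1 r, C.X i χ = 0 := fun i hi =>
    not_not.1 fun h0 => hc (Finset.mem_filter.2 ⟨hS, i, hi, h0⟩)
  have hY : ∀ i ∈ Finset.Ico 1 r, C.Y i χ = 0 := fun i hi =>
    not_not.1 fun h0 => hy (Finset.mem_filter.2 ⟨hS, i, hi, h0⟩)
  have h1 := C.dvd_deg1_vectors χ
  rw [hX r C.data.tab.q_mem, Finset.sum_eq_zero fun i hi =>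
      hX i (Finset.mem_Icc.2 ⟨(Finset.mem_Ico.1 hi).1, (Finset.mem_Ico.1 hi).2.le⟩),
    Finset.sum_eq_zero hY] at h1
  simp only [add_zero, sub_zero, mul_zero] at h1
  obtain ⟨n, hn⟩ := C.semi.pow_two'
  have h2 : 2 ^ (n + 1) ∣ C.deg1 χ := by
    rw [show (r : ℤ) = 2 ^ n by exact_mod_cast hn] at h1
    exact_mod_cast (by push_cast at h1 ⊢; rwa [pow_succ'] :
      ((2 ^ (n + 1) : ℕ) : ℤ) ∣ (C.deg1 χ : ℤ))
  have h3 : n + 1 ≤ blockHeight 2 B (χ : G → ℂ) := by
    rw [hh]
    exact (Nat.Prime.pow_dvd_iff_le_factorization Nat.prime_two hne).1 h2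
  have hd : blockDefect 2 B = n + 3 := by
    refine Nat.pow_right_injective le_rfl ?_
    show 2 ^ blockDefect 2 B = 2 ^ (n + 3)
    rw [C.pow, hn]
    ring
  have h4 := (CharAction.height_bound C.loc.modular C.block hχ (p := 2)).resolve_left (by omega)
  omega

theorem Ctx.exists_rows : ∃ v : IrrCharacter G → IrrCharacter G → ℤ,
    (∀ t ∈ rem (mems B) C.X C.Y r, IsRow (mems B) C.X C.Y r t (v t)) ∧
    (∀ t ∈ rem (mems B) C.X C.Y r, ∀ t' ∈ rem (mems B) C.X C.Y r, t ≠ t' →
      ∑ u ∈ mems B, v t u * v t' u = 0) ∧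
    ∀ t ∈ rem (mems B) C.X C.Y r, v t t = 2 ∧
      ∀ u : IrrCharacter G, ((2 ^ (Nat.card G).factorization 2 : ℕ) : ℂ) * zEntry 2 t u =
        ((2 : ℂ) ^ CharAction.degVal 2 (t : G → ℂ)) * (v t u : ℂ) := by
  have hA : ∀ a ∈ longSupp (mems B) C.X r, a ∈ B ∧ blockHeight 2 B (a : G → ℂ) = 0 :=
    fun a ha => ⟨C.long_subset ha, (C.height_zero_iff (C.long_subset ha)).2 ha⟩
  choose! v hv hvA hvs hv0 using fun t (ht : t ∈ rem (mems B) C.X C.Y r) =>
    exists_row C.loc.modular C.block hA C.data.tab.card_longSupp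
      ((Set.Finite.mem_toFinset _).1 (Finset.mem_filter.1 ht).1) (C.height_rem ht).1
      (C.height_rem ht).2
  have hz : ∀ t ∈ rem (mems B) C.X C.Y r, ∀ u : IrrCharacter G,
      ((2 ^ (Nat.card G).factorization 2 : ℕ) : ℂ) * zEntry 2 t u =
        ((2 : ℂ) ^ CharAction.degVal 2 (t : G → ℂ)) * (v t u : ℂ) := fun t ht u => by
    rw [pow_mul_zEntry, hv t ht u]
    push_cast
    rfl
  have horth : ∀ t ∈ rem (mems B) C.X C.Y r, ∀ (f : K → ℂ), Adm D σ f →
      ∀ w : IrrCharacter G → ℤ,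
        (∀ χ : IrrCharacter G, classInner (indFun K (comb Φ f)) (χ : G → ℂ) = w χ) →
          ∑ u ∈ mems B, w u * v t u = 0 := fun t ht f hf w hw => by
    refine Int.cast_injective (α := ℂ) ?_
    refine mul_left_cancel₀ (pow_ne_zero (CharAction.degVal 2 (t : G → ℂ))
      (two_ne_zero : (2 : ℂ) ≠ 0)) ?_
    push_cast
    rw [mul_zero, Finset.mul_sum]
    rw [Finset.sum_congr rfl (g := fun u => ((2 ^ (Nat.card G).factorization 2 : ℕ) : ℂ) *
      ((w u : ℂ) * zEntry 2 t u)) fun u _ => by rw [mul_left_comm, ← hz t ht u, mul_left_comm],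
      ← Finset.mul_sum, orth_regular (fun u => (w u : ℂ)) (mems B)
        (fun g hg => C.sum_regular hf w hw hg) t, mul_zero]
  refine ⟨v, fun t ht => ⟨hvA t ht, fun u hu huA hne =>
      hv0 t ht u ((Set.Finite.mem_toFinset _).1 hu) huA hne, ht,
      fun i _ => horth t ht _ (C.adm_fX i) _ (C.X_spec i),
      fun i hi => horth t ht _ (C.adm_fY (Finset.mem_Ico.1 hi).2) _ (C.Y_spec (Finset.mem_Ico.1 hi).2)⟩,
    fun t ht t' ht' hne => ?_, fun t ht => ⟨hvs t ht, hz t ht⟩⟩
  have h := sum_regNum_mul C.loc.modular C.block (χ' := t')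
    ((Set.Finite.mem_toFinset _).1 (Finset.mem_filter.1 ht).1) (p := 2)
  have htA : t' ∉ longSupp (mems B) C.X r := fun h' =>
    (C.height_rem ht').2 ((C.height_zero_iff (C.long_subset h')).2 h')
  simp only [hv t ht, hv t' ht', hv0 t ht t'
    ((Set.Finite.mem_toFinset _).1 (Finset.mem_filter.1 ht').1) htA hne.symm, mul_zero] at h
  rw [Finset.sum_congr rfl (g := fun u => ((2 : ℤ) ^ CharAction.degVal 2 (t : G → ℂ) *
    2 ^ CharAction.degVal 2 (t' : G → ℂ)) * (v t u * v t' u)) fun u _ => by push_cast; ring,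
    ← Finset.mul_sum] at h
  exact (mul_eq_zero.1 h).resolve_left (mul_ne_zero (pow_ne_zero _ two_ne_zero)
    (pow_ne_zero _ two_ne_zero))

theorem Ctx.config : Config (mems B) C.X C.Y r := by
  obtain ⟨v, hv, horth, -⟩ := C.exists_rows
  exact C.data.config v hv horth

/-- The lower bound for the rank coming from the rows and the degrees. -/
theorem Ctx.rem_add_le_blockRank (hd : Disjoint (cov (mems B) C.X r) (cyc (mems B) C.Y r)) :
    (rem (mems B) C.X C.Y r).card + (if r = 1 then 0 else 1) ≤ blockRank 2 B := by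
  have hM := C.loc.modular
  obtain ⟨v, hv, -, hz⟩ := C.exists_rows
  set R := rem (mems B) C.X C.Y r with hR
  have hRB : ∀ t ∈ R, t ∈ B := fun t ht =>
    (Set.Finite.mem_toFinset _).1 (Finset.mem_filter.1 ht).1
  have hzero : ∀ t ∈ R, ∀ u ∈ mems B, u ∉ longSupp (mems B) C.X r → u ≠ t → zEntry 2 t u = 0 :=
    fun t ht u hu huA hne => by
      refine mul_left_cancel₀ (pow_ne_zero' (G := G) (p := 2)) ?_
      rw [(hz t ht).2 u, (hv t ht).zero u hu huA hne, Int.cast_zero, mul_zero, mul_zero]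
  have hself : ∀ t ∈ R, zEntry 2 t t ≠ 0 := fun t ht h0 => by
    have h := (hz t ht).2 t
    rw [h0, mul_zero, (hz t ht).1] at h
    simp at h
  have hRA : ∀ t ∈ R, t ∉ longSupp (mems B) C.X r := fun t ht h' =>
    (C.height_rem ht).2 ((C.height_zero_iff (C.long_subset h')).2 h')
  let row : R → mems B → ℂ := fun t u => zEntry 2 (t : IrrCharacter G) (u : IrrCharacter G)
  have hli : LinearIndependent ℂ row := by
    rw [Fintype.linearIndependent_iff]
    intro c hc t
    have h := congrFun hc ⟨(t : IrrCharacter G), (Finset.mem_filter.1 t.2).1⟩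
    rw [Finset.sum_apply, Finset.sum_eq_single t (fun t' _ hne => ?_)
      (fun hn => absurd (Finset.mem_univ _) hn), Pi.smul_apply, smul_eq_mul, Pi.zero_apply,
      mul_eq_zero] at h
    · exact h.resolve_right (hself t t.2)
    · rw [Pi.smul_apply, smul_eq_mul]
      show c t' * zEntry 2 _ _ = 0
      rw [hzero t' t'.2 _ (Finset.mem_filter.1 t.2).1 (hRA t t.2)
        (fun h => hne (Subtype.ext h.symm)), mul_zero]
  by_cases hr : r = 1
  · rw [if_pos hr, add_zero]
    have := le_blockRank_of_independent hM C.block row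
      (fun t => zMap_row hM C.block t (hRB t t.2)) hli
    rwa [Fintype.card_coe] at this
  rw [if_neg hr]
  have h2 : 2 ≤ r := by have := C.semi.one_le; omega
  obtain ⟨c, hc⟩ := Finset.card_pos.1
    (by rw [C.data.card_cyc h2]; omega : 0 < (cyc (mems B) C.Y r).card)
  let f : Option R → mems B → ℂ := fun o =>
    o.elim (fun χ : mems B => ((χ : IrrCharacter G) : G → ℂ) 1) row
  have hf : LinearIndependent ℂ f := by
    rw [Fintype.linearIndependent_iff]
    intro a ha
    rw [Fintype.sum_option] at ha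
    have hcS : c ∈ mems B := (Finset.mem_filter.1 hc).1
    have hcA : c ∉ longSupp (mems B) C.X r := fun h =>
      Finset.disjoint_left.1 hd (by
        exact Finset.mem_filter.2 ⟨hcS, r, C.data.tab.q_mem, (Finset.mem_filter.1 h).2⟩) hc
    have h := congrFun ha ⟨c, hcS⟩
    simp only [f, Option.elim, Pi.add_apply, Finset.sum_apply, Pi.smul_apply, smul_eq_mul,
      Pi.zero_apply] at h
    rw [Finset.sum_eq_zero fun t _ => by
        rw [show row t ⟨c, hcS⟩ = 0 from hzero t t.2 c hcS hcA fun h =>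
          (Finset.mem_filter.1 t.2).2.2 (h ▸ hc), mul_zero], add_zero, mul_eq_zero] at h
    have hn : a none = 0 := h.resolve_right (Char.IsIrr.apply_one_ne_zero c.2)
    simp only [hn, zero_smul, zero_add] at ha
    rintro (_ | t)
    · exact hn
    · exact Fintype.linearIndependent_iff.1 hli (fun t => a (some t)) ha t
  have := le_blockRank_of_independent hM C.block f (fun o => by
    cases o with
    | none => exact zMap_degree hM C.block
    | some t => exact zMap_row hM C.block t (hRB t t.2)) hf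
  rwa [Fintype.card_option, Fintype.card_coe] at this

theorem Ctx.one_le_blockRank : 1 ≤ blockRank 2 B := by
  obtain ⟨χ, hχ⟩ := IsPBlock.nonempty C.block
  have hne : pRegularPart 2 (χ : G → ℂ) ≠ 0 := fun e => by
    have := congrFun e 1
    rw [pRegularPart, if_pos (show IsPRegular 2 (1 : G) by simp [IsPRegular])] at this
    exact Char.IsIrr.apply_one_ne_zero χ.2 this
  rw [blockRank, ← finrank_span_singleton (K := ℂ) hne]
  exact Submodule.finrank_mono (Submodule.span_mono (Set.singleton_subset_iff.2 ⟨χ, hχ, rfl⟩))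

/-- The configuration is regular, given the lower bound for `k - l`. -/
theorem Ctx.regular (hkl : blockRank 2 B + 2 * r + 1 ≤ Nat.card B) :
    Disjoint (cov (mems B) C.X r) (cyc (mems B) C.Y r) ∧
      (cov (mems B) C.X r).card = r + 3 ∧ (rem (mems B) C.X C.Y r).card ≤ 2 ∧
      (∀ t ∈ cov (mems B) C.X r, t ∉ longSupp (mems B) C.X r →
        Odd (∑ i ∈ Finset.Ico 1 r, C.X i t)) ∧
      Nat.card B = 2 * r + 3 + (rem (mems B) C.X C.Y r).card ∧
      (rem (mems B) C.X C.Y r).card + 1 ≤ blockRank 2 B := by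
  have hk : Nat.card B = (mems B).card := by
    rw [Nat.card_coe_set_eq, Set.ncard_eq_toFinset_card B (Set.toFinite B)]
  have hsplit := Data.card_eq (S := mems B) (x := C.X) (y := C.Y) (r := r)
  have hr2 := C.semi.two_le
  have hone := C.one_le_blockRank
  have hcyc := C.data.card_cyc hr2
  rcases C.config with ⟨hd, hcov, hrem, hoddX⟩ | ⟨hr, hd, hcov, hrem⟩ | ⟨hr, -, hcard⟩
  · have hl := C.rem_add_le_blockRank hd
    have hS := hsplit.2 hd
    rw [if_neg (by omega : ¬ r = 1)] at hrem hl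
    exact ⟨hd, hcov, hrem, hoddX, by omega, hl⟩
  · exfalso
    have hS := hsplit.1
    rw [hcov, hrem, Finset.card_empty] at hS
    omega
  · exfalso
    omega

/-- The invariants. -/
theorem Ctx.invariants (hkl : blockRank 2 B + 2 * r + 1 ≤ Nat.card B)
    (hrem1 : (rem (mems B) C.X C.Y r).card ≤ 1) :
    (Nat.card B = 2 * r + 3 ∨ Nat.card B = 2 * r + 4) ∧ 1 ≤ blockRank 2 B ∧ blockRank 2 B ≤ 3 ∧
      (blockRank 2 B = 3 → Nat.card B = 2 * r + 4) ∧ (blockRank 2 B = 1 → Nat.card B = 2 * r + 3) ∧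
      Nat.card {χ : IrrCharacter G // χ ∈ B ∧ blockHeight 2 B (χ : G → ℂ) = 0} = 4 ∧
      Nat.card {χ : IrrCharacter G // χ ∈ B ∧ blockHeight 2 B (χ : G → ℂ) = 1} = 2 * r - 1 ∧
      ∀ χ ∈ B, blockHeight 2 B (χ : G → ℂ) = 0 ∨ blockHeight 2 B (χ : G → ℂ) = 1 ∨
        blockHeight 2 B (χ : G → ℂ) + 2 = blockDefect 2 B := by
  obtain ⟨hd, hcov, -, hoddX, hk, hl⟩ := C.regular hkl
  have hr2 := C.semi.two_le
  have hmem : ∀ χ : IrrCharacter G, χ ∈ mems B ↔ χ ∈ B := fun χ => Set.Finite.mem_toFinset _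
  have hcount : ∀ (h : ℕ) (T : Finset (IrrCharacter G)), T ⊆ mems B →
      (∀ χ ∈ B, blockHeight 2 B (χ : G → ℂ) = h ↔ χ ∈ T) →
      Nat.card {χ : IrrCharacter G // χ ∈ B ∧ blockHeight 2 B (χ : G → ℂ) = h} = T.card :=
    fun h T hT hiff => by
    rw [← Fintype.card_coe, ← Nat.card_eq_fintype_card]
    exact Nat.card_congr (Equiv.subtypeEquivRight fun χ =>
      ⟨fun hh => (hiff χ hh.1).1 hh.2, fun hh => ⟨(hmem χ).1 (hT hh),
        (hiff χ ((hmem χ).1 (hT hh))).2 hh⟩⟩)
  have h1h : ∀ χ ∈ B, χ ∉ longSupp (mems B) C.X r → χ ∉ rem (mems B) C.X C.Y r →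
      blockHeight 2 B (χ : G → ℂ) = 1 := fun χ hχ hA hR => by
    have hχS := (hmem χ).2 hχ
    by_cases hc : χ ∈ cov (mems B) C.X r
    · have h2 : 2 ≤ r := by
        obtain ⟨i, hi, hne⟩ := (Finset.mem_filter.1 hc).2
        rw [Finset.mem_Icc] at hi
        by_contra hh
        exact hA (Finset.mem_filter.2 ⟨hχS, (show i = r by omega) ▸ hne⟩)
      refine C.height_one hχ h2 hA ?_
      rw [Finset.sum_eq_zero (f := fun i => C.Y i χ) fun i hi => not_not.1 fun h0 =>
        Finset.disjoint_left.1 hd hc (Finset.mem_filter.2 ⟨hχS, i, hi, h0⟩), sub_zero]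
      exact hoddX χ hc hA
    · have hy : χ ∈ cyc (mems B) C.Y r := by
        by_contra hy
        exact hR (Finset.mem_filter.2 ⟨hχS, hc, hy⟩)
      have h2 : 2 ≤ r := by
        by_contra hh
        rw [cyc_eq_empty (by omega)] at hy
        exact Finset.notMem_empty _ hy
      refine C.height_one hχ h2 hA ?_
      rw [Finset.sum_eq_zero (f := fun i => C.X i χ) fun i hi => not_not.1 fun h0 =>
        hc (Finset.mem_filter.2 ⟨hχS, i,
          Finset.mem_Icc.2 ⟨(Finset.mem_Ico.1 hi).1, (Finset.mem_Ico.1 hi).2.le⟩, h0⟩), zero_sub]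
      exact (C.data.odd_sum_cyc h2 hy).neg
  have hd3 : 4 ≤ blockDefect 2 B := by
    by_contra hlt
    have := Nat.pow_le_pow_right (show 1 ≤ 2 by norm_num) (show blockDefect 2 B ≤ 3 by omega)
    rw [C.pow] at this
    omega
  have hS := (Data.card_eq (S := mems B) (x := C.X) (y := C.Y) (r := r)).2 hd
  rw [hcov, C.data.card_cyc hr2] at hS
  refine ⟨by omega, C.one_le_blockRank, by omega, by omega, by omega, ?_, ?_, fun χ hχ => ?_⟩
  · rw [hcount 0 (longSupp (mems B) C.X r) (Finset.filter_subset _ _)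
      (fun χ hχ => C.height_zero_iff hχ), C.data.tab.card_longSupp]
  · have hsub1 : longSupp (mems B) C.X r ∪ rem (mems B) C.X C.Y r ⊆ mems B :=
      Finset.union_subset (Finset.filter_subset _ _) (Finset.filter_subset _ _)
    rw [hcount 1 (mems B \ (longSupp (mems B) C.X r ∪ rem (mems B) C.X C.Y r))
      Finset.sdiff_subset (fun χ hχ => ?_), Finset.card_sdiff_of_subset hsub1,
      Finset.card_union_of_disjoint, C.data.tab.card_longSupp]
    · omega
    · exact Finset.disjoint_left.2 fun t ht h =>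
        (C.height_rem h).2 ((C.height_zero_iff (C.long_subset ht)).2 ht)
    · rw [Finset.mem_sdiff, Finset.mem_union, not_or]
      refine ⟨fun h => ⟨(hmem χ).2 hχ, fun hA => ?_, fun hR => ?_⟩, fun h => h1h χ hχ h.2.1 h.2.2⟩
      · rw [(C.height_zero_iff hχ).2 hA] at h
        omega
      · have h1 := C.height_rem hR
        have h2 := C.pow
        rw [show blockDefect 2 B = 3 by omega] at h2
        omega
  · by_cases hA : χ ∈ longSupp (mems B) C.X r
    · exact Or.inl ((C.height_zero_iff hχ).2 hA)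
    by_cases hR : χ ∈ rem (mems B) C.X C.Y r
    · exact Or.inr (Or.inr (C.height_rem hR).1)
    · exact Or.inr (Or.inl (h1h χ hχ hA hR))

end CfsgLib.Blocks.SemiDefect
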