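import Cfsg.Prelude.Def_CaseTheorems
import Cfsg.Agent.Lib.Blocks.QuaternionDefect.Group

/-!
# Semidihedral 2-subgroups

Generators `σ` of order `4 r` and an involution `τ` with `τ σ τ⁻¹ = σ ^ (2 r - 1)`, `r` an even
power of 2 or an odd power of 2 greater than 1.
-/

set_option autoImplicit false

namespace CfsgLib.Blocks.SemiDefect

open Cfsg CfsgLib.Blocks.DihedralDefect CfsgLib.Blocks.QuaternionDefect
open scoped Classical ComplexConjugate

variable {K : Type*} [Group K]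

/-- A semidihedral subgroup of order `8 * r` with generators `σ`, `τ` and a faithful character
of `⟨σ⟩`. -/
structure Semi (D : Subgroup K) (σ τ : K) (r : ℕ) (l : Subgroup.zpowers σ →* ℂˣ) : Prop where
  two_le : 2 ≤ r
  pow_two' : ∃ e, r = 2 ^ e
  card : Nat.card D = 8 * r
  ord : orderOf σ = 2 * (2 * r)
  memσ : σ ∈ D
  memτ : τ ∈ D
  τ_sq : τ * τ = 1
  rel : τ * σ * τ⁻¹ = σ⁻¹ * σ ^ (2 * r)
  notMem : τ ∉ Subgroup.zpowers σ
  elt : ∀ g ∈ D, ∃ i : ℤ, g = σ ^ i ∨ g = σ ^ i * τ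
  prim : IsPrimitiveRoot ((l ⟨σ, Subgroup.mem_zpowers σ⟩ : ℂˣ) : ℂ) (2 * (2 * r))

/-- A semidihedral subgroup in coordinates. -/
theorem exists_semi (D : Subgroup K) {n : ℕ} (hn : 4 ≤ n) (hcard : Nat.card D = 2 ^ n)
    (hsd : IsQuasiDihedral D) :
    ∃ (σ τ : K) (l : Subgroup.zpowers σ →* ℂˣ), Semi D σ τ (2 ^ (n - 3)) l := by
  obtain ⟨m, hm, hm', x, y, hx, hy, hxy⟩ := hsd
  obtain rfl : n = m + 1 := Nat.pow_right_injective le_rfl (hcard.symm.trans hm')
  obtain ⟨e, rfl⟩ : ∃ e, m = e + 2 := ⟨m - 2, by omega⟩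
  rw [show e + 2 + 1 - 3 = e by omega]
  have hord : orderOf x = 2 * (2 * 2 ^ e) := by rw [hx]; ring
  have hrel : y * x * y⁻¹ = x⁻¹ * x ^ (2 * 2 ^ e) := by
    rw [hxy, show e + 2 - 1 = e + 1 by omega, pow_succ' 2 e, eq_inv_mul_iff_mul_eq, ← pow_succ',
      Nat.sub_add_cancel (Nat.one_le_iff_ne_zero.2 (by positivity))]
  have hy2 : y * y = 1 := by rw [← pow_two, ← hy, pow_orderOf_eq_one]
  have hnot : y ∉ Subgroup.zpowers x := by
    intro hmem
    obtain ⟨i, rfl⟩ := Subgroup.mem_zpowers_iff.1 hmem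
    rw [(Commute.zpow_self x i).eq, mul_inv_cancel_right, eq_inv_mul_iff_mul_eq, ← pow_two] at hrel
    have h1 : 2 * 2 ^ e = 2 := by
      refine pow_injOn_Iio_orderOf ?_ ?_ hrel.symm <;> rw [Set.mem_Iio, hord] <;>
        have := Nat.one_le_two_pow (n := e) <;> omega
    have : 2 ^ 1 ≤ 2 ^ e := Nat.pow_le_pow_right (by norm_num) (by omega)
    omega
  have hidx : (Subgroup.zpowers x).index = 2 := by
    have h1 := (Subgroup.zpowers x).card_mul_index
    rw [Nat.card_zpowers, hm', hx, pow_succ] at h1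
    exact Nat.eq_of_mul_eq_mul_left (by positivity) h1
  obtain ⟨g, hg⟩ : ∃ g : ℂ, IsPrimitiveRoot g (2 * (2 * 2 ^ e)) :=
    ⟨_, Complex.isPrimitiveRoot_exp _ (by positivity)⟩
  set ζu : ℂˣ := (hg.isUnit (by positivity)).unit with hζu
  have hζo : orderOf ζu = 2 * (2 * 2 ^ e) := by
    rw [← orderOf_units, hζu, IsUnit.unit_spec]
    exact hg.eq_orderOf.symm
  have hgen : ∀ u : Subgroup.zpowers (x : K),
      u ∈ Subgroup.zpowers (⟨(x : K), Subgroup.mem_zpowers _⟩ : Subgroup.zpowers (x : K)) :=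
    fun u => by
      obtain ⟨i, hi⟩ := Subgroup.mem_zpowers_iff.1 u.2
      exact Subgroup.mem_zpowers_iff.2 ⟨i, Subtype.ext (by simpa using hi)⟩
  let l : Subgroup.zpowers (x : K) →* ℂˣ := monoidHomOfForallMemZpowers hgen
    (by rw [hζo, Subgroup.orderOf_mk, Subgroup.orderOf_coe, hord] : orderOf ζu ∣ orderOf
      (⟨(x : K), Subgroup.mem_zpowers _⟩ : Subgroup.zpowers (x : K)))
  refine ⟨(x : K), (y : K), l, ⟨?_, ⟨e, rfl⟩, ?_, ?_, x.2, y.2, congrArg Subtype.val hy2, ?_, ?_,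
    fun u hu => ?_, ?_⟩⟩
  · exact le_trans (by norm_num) (Nat.pow_le_pow_right (show 1 ≤ 2 by norm_num) (show 1 ≤ e by omega))
  · rw [hcard]; ring
  · rw [Subgroup.orderOf_coe, hord]
  · have := congrArg Subtype.val hrel
    push_cast at this
    exact this
  · intro hmem
    obtain ⟨i, hi⟩ := Subgroup.mem_zpowers_iff.1 hmem
    exact hnot ⟨i, Subtype.ext (by simpa using hi)⟩
  · by_cases hu' : (⟨u, hu⟩ : D) ∈ Subgroup.zpowers x
    · obtain ⟨i, hi⟩ := Subgroup.mem_zpowers_iff.1 hu'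
      exact ⟨i, Or.inl (by simpa using (congrArg Subtype.val hi).symm)⟩
    · have h1 : (⟨u, hu⟩ : D) * y ∈ Subgroup.zpowers x :=
        (Subgroup.mul_mem_iff_of_index_two hidx).2 (iff_of_false hu' hnot)
      obtain ⟨i, hi⟩ := Subgroup.mem_zpowers_iff.1 h1
      have h2 : x ^ i * y = (⟨u, hu⟩ : D) := by rw [hi, mul_assoc, hy2, mul_one]
      exact ⟨i, Or.inr (by simpa using (congrArg Subtype.val h2).symm)⟩
  · rw [show l ⟨(x : K), Subgroup.mem_zpowers _⟩ = ζu from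
      monoidHomOfForallMemZpowers_apply_gen hgen _, hζu, IsUnit.unit_spec]
    exact hg

variable {D : Subgroup K} {σ τ : K} {r : ℕ} {l : Subgroup.zpowers σ →* ℂˣ} (h : Semi D σ τ r l)
include h

theorem Semi.one_le : 1 ≤ r := le_trans (by norm_num) h.two_le

theorem Semi.even : 2 ∣ r := by
  obtain ⟨_ | e, he⟩ := h.pow_two'
  · have := h.two_le; simp at he; omega
  · exact he ▸ dvd_pow_self 2 e.succ_ne_zero

/-- The same data inside a subgroup containing `D`. -/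
theorem Semi.subgroupOf {H : Subgroup K} (hDH : D ≤ H) :
    ∃ l' : Subgroup.zpowers (⟨σ, hDH h.memσ⟩ : H) →* ℂˣ,
      Semi (D.subgroupOf H) ⟨σ, hDH h.memσ⟩ ⟨τ, hDH h.memτ⟩ r l' := by
  set s : H := ⟨σ, hDH h.memσ⟩ with hs
  have hval : ∀ i : ℤ, ((s ^ i : H) : K) = σ ^ i := fun i => by rw [SubgroupClass.coe_zpow]
  let m : Subgroup.zpowers s →* Subgroup.zpowers σ :=
    (H.subtype.comp (Subgroup.zpowers s).subtype).codRestrict (Subgroup.zpowers σ) fun x => by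
      obtain ⟨i, hi⟩ := Subgroup.mem_zpowers_iff.1 x.2
      exact ⟨i, by simp [← hi, hs]⟩
  refine ⟨l.comp m, ⟨h.two_le, h.pow_two', ?_, ?_, h.memσ, h.memτ, Subtype.ext ?_,
    Subtype.ext (by simpa using h.rel), fun hm => ?_, fun g hg => ?_, ?_⟩⟩
  · rw [Nat.card_congr (Subgroup.subgroupOfEquivOfLe hDH).toEquiv, h.card]
  · rw [hs, Subgroup.orderOf_mk, h.ord]
  · simp [h.τ_sq]
  · obtain ⟨i, hi⟩ := Subgroup.mem_zpowers_iff.1 hm
    exact h.notMem ⟨i, by
      show σ ^ i = τ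
      rw [← hval, hi]⟩
  · obtain ⟨i, hi | hi⟩ := h.elt (g : K) hg
    · exact ⟨i, Or.inl (Subtype.ext (by rw [hval, hi]))⟩
    · exact ⟨i, Or.inr (Subtype.ext (by rw [Subgroup.coe_mul, hval, hi]))⟩
  · exact h.prim

theorem Semi.zpowers_le : Subgroup.zpowers σ ≤ D := Subgroup.zpowers_le.2 h.memσ

theorem Semi.finite : Finite D :=
  Nat.finite_of_card_ne_zero (by rw [h.card]; have := h.one_le; omega)

theorem Semi.isPGroup : IsPGroup 2 D := by
  obtain ⟨e, he⟩ := h.pow_two'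
  exact IsPGroup.of_card (n := e + 3) (by rw [h.card, he]; ring)

theorem Semi.a_ord : orderOf (σ ^ r) = 4 := by
  have := h.one_le
  rw [orderOf_pow_of_dvd (by omega) (by rw [h.ord]; exact ⟨4, by ring⟩), h.ord,
    show 2 * (2 * r) = 4 * r by ring, Nat.mul_div_cancel _ (by omega)]

theorem Semi.a_four : (σ ^ r) ^ 4 = 1 := by rw [← h.a_ord, pow_orderOf_eq_one]

theorem Semi.z_ord : orderOf (σ ^ (2 * r)) = 2 := by
  have := h.one_le
  rw [orderOf_pow_of_dvd (by omega) (by rw [h.ord]; exact dvd_mul_left _ 2), h.ord,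
    Nat.mul_div_cancel _ (by omega)]

theorem Semi.z_sq : σ ^ (2 * r) * σ ^ (2 * r) = 1 := by
  have := pow_orderOf_eq_one (σ ^ (2 * r))
  rwa [h.z_ord, pow_two] at this

theorem Semi.z_ne : σ ^ (2 * r) ≠ 1 := fun e => by
  have := h.z_ord
  rw [e, orderOf_one] at this
  omega

theorem Semi.conj_zpow (i : ℤ) : τ * σ ^ i * τ⁻¹ = σ ^ ((((2 * r : ℕ) : ℤ) - 1) * i) := by
  rw [← _root_.conj_zpow, h.rel, zpow_mul, zpow_sub_one, zpow_natCast,
    ((Commute.refl σ).inv_left.pow_right _).eq]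

theorem Semi.zpow_eq_one_iff {i : ℤ} : σ ^ i = 1 ↔ ((2 * (2 * r) : ℕ) : ℤ) ∣ i := by
  rw [← orderOf_dvd_iff_zpow_eq_one, h.ord]

theorem Semi.zpow_eq_of_sub {i j : ℤ} (hd : ((2 * (2 * r) : ℕ) : ℤ) ∣ i - j) : σ ^ i = σ ^ j := by
  rw [← mul_inv_eq_one, ← zpow_neg, ← zpow_add, ← sub_eq_add_neg]
  exact h.zpow_eq_one_iff.2 hd

theorem Semi.conj_a : τ * σ ^ r * τ⁻¹ = (σ ^ r)⁻¹ := by
  rw [← zpow_natCast σ r, h.conj_zpow, ← zpow_neg]
  obtain ⟨s, hs⟩ := h.even
  exact h.zpow_eq_of_sub ⟨(s : ℤ), by rw [hs]; push_cast; ring⟩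

theorem Semi.z_conj : τ * σ ^ (2 * r) * τ⁻¹ = σ ^ (2 * r) := by
  rw [← zpow_natCast σ (2 * r), h.conj_zpow]
  exact h.zpow_eq_of_sub ⟨(r : ℤ) - 1, by push_cast; ring⟩

theorem Semi.z_commute {g : K} (hg : g ∈ D) : Commute (σ ^ (2 * r)) g := by
  have h1 : Commute (σ ^ (2 * r)) τ :=
    (show Commute τ (σ ^ (2 * r)) from mul_inv_eq_iff_eq_mul.1 h.z_conj).symm
  obtain ⟨i, rfl | rfl⟩ := h.elt g hg
  · exact ((Commute.refl σ).pow_left _).zpow_right i
  · exact (((Commute.refl σ).pow_left _).zpow_right i).mul_right h1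

theorem Semi.sq_eq (i : ℤ) : σ ^ i * τ * (σ ^ i * τ) = σ ^ (((2 * r : ℕ) : ℤ) * i) := by
  have e : τ * σ ^ i = σ ^ ((((2 * r : ℕ) : ℤ) - 1) * i) * τ := mul_inv_eq_iff_eq_mul.1 (h.conj_zpow i)
  calc σ ^ i * τ * (σ ^ i * τ) = σ ^ i * (τ * σ ^ i) * τ := by group
    _ = σ ^ i * σ ^ ((((2 * r : ℕ) : ℤ) - 1) * i) * (τ * τ) := by rw [e]; group
    _ = _ := by rw [h.τ_sq, mul_one, ← zpow_add]; ring_nf

/-- The elements outside `⟨σ⟩` square to `1` or to the central involution. -/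
theorem Semi.sq_cases {g : K} (hg : g ∈ D) (hgσ : g ∉ Subgroup.zpowers σ) :
    g * g = 1 ∨ g * g = σ ^ (2 * r) := by
  obtain ⟨i, rfl | rfl⟩ := h.elt g hg
  · exact absurd ⟨i, rfl⟩ hgσ
  · rw [h.sq_eq]
    rcases Int.even_or_odd i with ⟨j, hj⟩ | ⟨j, hj⟩
    · exact Or.inl (h.zpow_eq_one_iff.2 ⟨j, by rw [hj]; push_cast; ring⟩)
    · refine Or.inr ?_
      rw [← zpow_natCast σ (2 * r)]
      exact h.zpow_eq_of_sub ⟨j, by rw [hj]; push_cast; ring⟩

/-- A square root of one among the rotations is `1` or the central involution. -/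
theorem Semi.eq_one_or_z {x : K} (hx : x ∈ Subgroup.zpowers σ) (hx2 : x * x = 1) :
    x = 1 ∨ x = σ ^ (2 * r) := by
  obtain ⟨i, rfl⟩ := Subgroup.mem_zpowers_iff.1 hx
  rw [← zpow_add, ← orderOf_dvd_iff_zpow_eq_one, h.ord] at hx2
  push_cast at hx2
  obtain ⟨k, hk⟩ := hx2
  have hi : i = (2 * r : ℕ) * k := by push_cast; linarith
  rcases Int.even_or_odd k with ⟨j, hj⟩ | ⟨j, hj⟩
  · left
    rw [← orderOf_dvd_iff_zpow_eq_one, h.ord]
    exact ⟨j, by rw [hi, hj]; push_cast; ring⟩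
  · right
    rw [hi, hj, show ((2 * r : ℕ) : ℤ) * (2 * j + 1) =
        ((2 * (2 * r) : ℕ) : ℤ) * j + ((2 * r : ℕ) : ℤ) by push_cast; ring,
      zpow_add, zpow_mul, zpow_natCast, ← h.ord, pow_orderOf_eq_one, one_zpow, one_mul, zpow_natCast]

/-- The rotations of order 4. -/
theorem Semi.eq_a_or_inv {x : K} (hx : x ∈ Subgroup.zpowers σ) (hx2 : x * x = σ ^ (2 * r)) :
    x = σ ^ r ∨ x = (σ ^ r)⁻¹ := by
  have hy : x * (σ ^ r)⁻¹ ∈ Subgroup.zpowers σ :=
    mul_mem hx (inv_mem (Subgroup.npow_mem_zpowers σ r))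
  have hc : Commute x (σ ^ r)⁻¹ := by
    obtain ⟨i, rfl⟩ := Subgroup.mem_zpowers_iff.1 hx
    exact (((Commute.refl σ).pow_right r).inv_right).zpow_left i
  rcases h.eq_one_or_z hy (by
    rw [← pow_two, hc.mul_pow, inv_pow, a_sq_eq, pow_two, hx2, mul_inv_cancel]) with e | e
  · exact Or.inl (mul_inv_eq_one.1 e)
  · right
    rw [mul_inv_eq_iff_eq_mul.1 e, eq_inv_iff_mul_eq_one, mul_assoc, ← pow_two, a_sq_eq, h.z_sq]

/-- A rotation other than `1` and the central involution has `σ ^ r` as a power. -/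
theorem Semi.exists_pow_eq_a {x : K} (hx : x ∈ Subgroup.zpowers σ) (hx2 : x * x ≠ 1) :
    ∃ m : ℕ, x ^ m = σ ^ r := by
  obtain ⟨e, he⟩ := h.pow_two'
  have hd : orderOf x ∣ 2 ^ (e + 2) := by
    rw [show 2 ^ (e + 2) = 2 * (2 * r) by rw [he]; ring, ← h.ord]
    exact orderOf_dvd_of_mem_zpowers hx
  obtain ⟨k, -, hk⟩ := (Nat.dvd_prime_pow Nat.prime_two).1 hd
  rcases k with _ | _ | k
  · have hx1 : x = 1 := orderOf_eq_one_iff.1 (by simpa using hk)
    exact absurd (by rw [hx1, one_mul] : x * x = 1) hx2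
  · exact absurd (by rw [← pow_two, show 2 = orderOf x by rw [hk]; norm_num, pow_orderOf_eq_one] :
      x * x = 1) hx2
  have hy : x ^ 2 ^ k * x ^ 2 ^ k = σ ^ (2 * r) := by
    refine (h.eq_one_or_z (mul_mem (pow_mem hx _) (pow_mem hx _)) ?_).resolve_left fun e' => ?_
    · simp only [← pow_add]
      rw [show 2 ^ k + 2 ^ k + (2 ^ k + 2 ^ k) = orderOf x by rw [hk]; ring, pow_orderOf_eq_one]
    · rw [← pow_add] at e'
      have h3 := Nat.le_of_dvd (by have := Nat.two_pow_pos k; omega)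
        (orderOf_dvd_of_pow_eq_one e')
      rw [hk, pow_succ, pow_succ] at h3
      have := Nat.two_pow_pos k
      omega
  rcases h.eq_a_or_inv (pow_mem hx _) hy with e' | e'
  · exact ⟨_, e'⟩
  · refine ⟨2 ^ k * 3, ?_⟩
    rw [pow_mul, e', inv_pow, inv_eq_iff_mul_eq_one, ← pow_succ, h.a_four]

/-- An automorphism of odd order of a subgroup of `D` that fixes `σ ^ r` is trivial. -/
theorem Semi.aut_eq_one {Q : Subgroup K} (hQ : Q ≤ D) {α : MulAut Q} {m : ℕ} (hm : Odd m)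
    (hαm : α ^ m = 1) (ha : ∀ x : Q, (x : K) = σ ^ r → α x = x)
    (hz : ∀ x : Q, (x : K) = σ ^ (2 * r) → α x = x) : α = 1 := by
  have := h.finite
  have : Finite Q := Finite.of_injective _ (Subgroup.inclusion_injective hQ)
  -- squares of odd order maps
  have hodd : ∀ x : Q, α (α x) = x → α x = x := fun x hx => by
    obtain ⟨k, hk⟩ := hm
    have h2 : ∀ j : ℕ, (α ^ (2 * j)) x = x := fun j => by
      induction j with
      | zero => simp
      | succ j ih => rw [mul_add, pow_add, MulAut.mul_apply, show (α ^ (2 * 1)) x = x by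
          simpa [pow_two] using hx, ih]
    have h3 := congrArg (fun β : MulAut Q => β x) hαm
    simp only [hk, pow_succ', MulAut.mul_apply, h2, MulAut.one_apply] at h3
    exact h3
  have hpowx : ∀ x : Q, ∃ k, orderOf x = 2 ^ k := fun x => by
    obtain ⟨k, hk⟩ := IsPGroup.iff_orderOf.1 h.isPGroup ⟨(x : K), hQ x.2⟩
    exact ⟨k, by rw [← Subgroup.orderOf_coe, ← hk, Subgroup.orderOf_mk]⟩
  have hmap : ∀ x : Q, (x : K) ∈ Subgroup.zpowers σ → ((α x : Q) : K) ∈ Subgroup.zpowers σ := by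
    intro x hx
    by_contra hn
    have h4 : x * x * (x * x) = 1 := α.injective (by
      rw [map_mul, map_mul, map_one]
      refine Subtype.ext ?_
      rw [Subgroup.coe_mul, Subgroup.coe_mul, Subgroup.coe_one]
      rcases h.sq_cases (hQ (α x).2) hn with e | e <;> rw [e]
      exacts [one_mul 1, h.z_sq])
    have h4' : ((x : K) * x) * ((x : K) * x) = 1 := congrArg Subtype.val h4
    have hfix : α x = x := by
      rcases h.eq_one_or_z (mul_mem hx hx) h4' with e | e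
      · rcases h.eq_one_or_z hx e with e' | e'
        · rw [show x = 1 from Subtype.ext e', map_one]
        · exact hz x e'
      · rcases h.eq_a_or_inv hx e with e' | e'
        · exact ha x e'
        · have := ha x⁻¹ (by rw [Subgroup.coe_inv, e', inv_inv])
          rwa [map_inv, inv_inj] at this
    rw [hfix] at hn
    exact hn hx
  have hR : ∀ k : ℕ, ∀ x : Q, (x : K) ∈ Subgroup.zpowers σ → orderOf x ∣ 2 ^ k → α x = x := by
    intro k
    induction k with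
    | zero =>
      intro x _ hx
      rw [show x = 1 from orderOf_eq_one_iff.1 (Nat.dvd_one.1 (by simpa using hx)), map_one]
    | succ k ih =>
      intro x hx hk
      have h2 : orderOf (x * x) ∣ 2 ^ k := by
        refine orderOf_dvd_of_pow_eq_one ?_
        rw [← pow_two, ← pow_mul, ← pow_succ']
        exact orderOf_dvd_iff_pow_eq_one.1 hk
      have hfix := ih (x * x) (mul_mem hx hx) h2
      rw [map_mul] at hfix
      have hc : Commute ((α x : Q) : K) (x : K) := by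
        obtain ⟨i, hi⟩ := Subgroup.mem_zpowers_iff.1 (hmap x hx)
        obtain ⟨j, hj⟩ := Subgroup.mem_zpowers_iff.1 hx
        rw [← hi, ← hj]
        exact Commute.zpow_zpow_self σ i j
      set t : Q := x⁻¹ * α x with ht
      have htσ : (t : K) ∈ Subgroup.zpowers σ := mul_mem (inv_mem hx) (hmap x hx)
      have ht2 : (t : K) * t = 1 := by
        rw [ht, Subgroup.coe_mul, Subgroup.coe_inv]
        calc (x : K)⁻¹ * (α x : Q) * ((x : K)⁻¹ * (α x : Q))
            = ((x : K)⁻¹ * (x : K)⁻¹) * (((α x : Q) : K) * (α x : Q)) := by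
              rw [mul_assoc, ← mul_assoc ((α x : Q) : K), (hc.inv_right).eq]
              group
          _ = 1 := by
              rw [← Subgroup.coe_mul, hfix, Subgroup.coe_mul]
              group
      have htfix : α t = t := by
        rcases h.eq_one_or_z htσ ht2 with e | e
        · rw [show t = 1 from Subtype.ext e, map_one]
        · exact hz t e
      refine hodd x ?_
      rw [show α x = x * t by rw [ht, mul_inv_cancel_left], map_mul, htfix,
        show α x = x * t by rw [ht, mul_inv_cancel_left], mul_assoc,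
        show t * t = 1 from Subtype.ext ht2, mul_one]
  have hrot : ∀ x : Q, (x : K) ∈ Subgroup.zpowers σ → α x = x := fun x hx => by
    obtain ⟨k, hk⟩ := hpowx x
    exact hR k x hx hk.dvd
  have hout : ∀ x : Q, (x : K) ∉ Subgroup.zpowers σ → ((α x : Q) : K) ∉ Subgroup.zpowers σ :=
    fun x hx hn => hx (by rwa [α.injective (hrot _ hn)] at hn)
  refine MulEquiv.ext fun x => ?_
  rw [MulAut.one_apply]
  by_cases hx : (x : K) ∈ Subgroup.zpowers σ
  · exact hrot x hx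
  have hr : ((x⁻¹ * α x : Q) : K) ∈ Subgroup.zpowers σ := by
    obtain ⟨i, hi | hi⟩ := h.elt x (hQ x.2)
    · exact absurd ⟨i, hi.symm⟩ hx
    obtain ⟨j, hj | hj⟩ := h.elt _ (hQ (α x).2)
    · exact absurd ⟨j, hj.symm⟩ (hout x hx)
    rw [Subgroup.coe_mul, Subgroup.coe_inv, hi, hj, show (σ ^ i * τ)⁻¹ * (σ ^ j * τ) =
      τ⁻¹ * σ ^ (-i + j) * τ by group]
    have hτ : τ⁻¹ = τ := inv_eq_of_mul_eq_one_right h.τ_sq
    rw [hτ, show τ * σ ^ (-i + j) * τ = τ * σ ^ (-i + j) * τ⁻¹ by rw [hτ], h.conj_zpow]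
    exact ⟨_, rfl⟩
  have hrfix := hrot _ hr
  have hpow : ∀ n : ℕ, (α ^ n) x = x * (x⁻¹ * α x) ^ n := fun n => by
    induction n with
    | zero => simp
    | succ n ih =>
      rw [pow_succ', MulAut.mul_apply, ih, map_mul, map_pow, hrfix,
        pow_succ' (x⁻¹ * α x) n, ← mul_assoc, mul_inv_cancel_left]
  have h1 := hpow m
  rw [hαm, MulAut.one_apply, left_eq_mul] at h1
  obtain ⟨k, hk⟩ := hpowx (x⁻¹ * α x)
  have hd := orderOf_dvd_of_pow_eq_one h1
  rw [hk] at hd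
  rcases k with _ | k
  · rw [pow_zero, orderOf_eq_one_iff, inv_mul_eq_one] at hk
    exact hk.symm
  · obtain ⟨b, hb⟩ := hm
    have : 2 ∣ m := (dvd_pow_self 2 k.succ_ne_zero).trans hd
    omega

/-- The involutions outside `⟨σ⟩` are conjugate to `τ` in `D`. -/
theorem Semi.exists_conj_eq_τ {g : K} (hg : g ∈ D) (hgσ : g ∉ Subgroup.zpowers σ) (hg2 : g * g = 1) :
    ∃ y ∈ D, y * g * y⁻¹ = τ := by
  obtain ⟨i, rfl | rfl⟩ := h.elt g hg
  · exact absurd ⟨i, rfl⟩ hgσ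
  rw [h.sq_eq, h.zpow_eq_one_iff] at hg2
  obtain ⟨c, hc⟩ := hg2
  have hr0 : ((2 * r : ℕ) : ℤ) ≠ 0 := Nat.cast_ne_zero.2 (by have := h.two_le; omega)
  have hi : i = 2 * c := mul_left_cancel₀ hr0 (by rw [hc]; push_cast; ring)
  obtain ⟨s, hs⟩ := h.even
  refine ⟨(σ ^ ((1 + (r : ℤ)) * c))⁻¹, inv_mem (zpow_mem h.memσ _), ?_⟩
  set k := (1 + (r : ℤ)) * c
  have e : τ * σ ^ k = σ ^ ((((2 * r : ℕ) : ℤ) - 1) * k) * τ := mul_inv_eq_iff_eq_mul.1 (h.conj_zpow k)
  rw [inv_inv, show (σ ^ k)⁻¹ * (σ ^ i * τ) * σ ^ k = (σ ^ k)⁻¹ * σ ^ i * (τ * σ ^ k) by group, e,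
    ← zpow_neg, ← mul_assoc, ← zpow_add, ← zpow_add, mul_eq_right]
  refine h.zpow_eq_one_iff.2 ⟨c * s, ?_⟩
  simp only [k, hi, hs]
  push_cast
  ring

/-- The centralizer of `τ` in `D`. -/
theorem Semi.commute_τ {g : K} (hg : g ∈ D) (hc : Commute g τ) :
    g = 1 ∨ g = σ ^ (2 * r) ∨ g = τ ∨ g = σ ^ (2 * r) * τ := by
  have key : ∀ i : ℤ, Commute (σ ^ i) τ → σ ^ i = 1 ∨ σ ^ i = σ ^ (2 * r) := fun i hi => by
    refine h.eq_one_or_z ⟨i, rfl⟩ ?_
    have h1 := h.conj_zpow i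
    rw [← hi.eq, mul_inv_cancel_right] at h1
    obtain ⟨c, hc⟩ := h.zpow_eq_one_iff.1 (show σ ^ (((((2 * r : ℕ) : ℤ) - 1) * i) - i) = 1 by
      rw [zpow_sub, ← h1, mul_inv_cancel])
    rw [← zpow_add, h.zpow_eq_one_iff]
    obtain ⟨s, hs⟩ := h.even
    rw [hs] at hc ⊢
    push_cast at hc ⊢
    refine ⟨-c * (2 * s + 1) + i * s, ?_⟩
    linear_combination (-(2 * (s : ℤ) + 1)) * hc
  obtain ⟨i, rfl | rfl⟩ := h.elt g hg
  · rcases key i hc with e | e
    exacts [Or.inl e, Or.inr (Or.inl e)]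
  · have hi : Commute (σ ^ i) τ := by
      have h1 := hc.mul_left ((Commute.refl τ).inv_left)
      rwa [mul_inv_cancel_right] at h1
    rcases key i hi with e | e <;> rw [e]
    exacts [Or.inr (Or.inr (Or.inl (one_mul τ))), Or.inr (Or.inr (Or.inr rfl))]

/-- The elements other than `1` have `z` as a power, the involutions outside `⟨σ⟩` excepted. -/
theorem Semi.z_mem_or_involution {y : K} (hy : y ∈ D) (hy1 : y ≠ 1) :
    σ ^ (2 * r) ∈ Subgroup.zpowers y ∨ (y ∉ Subgroup.zpowers σ ∧ y * y = 1) := by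
  by_cases hyσ : y ∈ Subgroup.zpowers σ
  · left
    by_cases hy2 : y * y = 1
    · rcases h.eq_one_or_z hyσ hy2 with e | e
      · exact absurd e hy1
      · exact e ▸ Subgroup.mem_zpowers y
    · obtain ⟨m, hm⟩ := h.exists_pow_eq_a hyσ hy2
      rw [← a_sq_eq, ← hm, ← pow_mul]
      exact Subgroup.npow_mem_zpowers y _
  · rcases h.sq_cases hy hyσ with e | e
    · exact Or.inr ⟨hyσ, e⟩
    · exact Or.inl (e ▸ mul_mem (Subgroup.mem_zpowers y) (Subgroup.mem_zpowers y))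

end CfsgLib.Blocks.SemiDefect
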