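import Cfsg.Agent.Lib.Blocks.SemiDefect.Setting
import Cfsg.Agent.Lib.Blocks.QuaternionDefect.Induce

/-!
# The induced generalized characters of a block with semidihedral defect group
-/

set_option autoImplicit false

namespace CfsgLib.Blocks.SemiDefect

open Cfsg CfsgLib.Blocks CfsgLib.Pairs CfsgLib.Star CfsgLib.Char CfsgLib.Blocks.DihedralDefect
  CfsgLib.Blocks.QuaternionDefect
open scoped Classical ComplexConjugate

variable {G : Type*} [Group G] [Fintype G]
variable {K : Subgroup G} {M : Ideal AlgInt} [M.IsPrime] [Fact (Nat.Prime 2)]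
  {B : Set (IrrCharacter G)}
  {b : Set (IrrCharacter K)} {D : Subgroup K} {σ τ : K} {r : ℕ}
  {l : Subgroup.zpowers σ →* ℂˣ}
  {e : Set (IrrCharacter (Subgroup.centralizer (D : Set K)))} {F : FusionSystem D}
  {ξ₀ : IrrCharacter K} {Φ : IrrCharacter D ≃ b} [Fintype (IrrCharacter D)]

/-- The functions of even index. -/
noncomputable def fX (l : Subgroup.zpowers σ →* ℂˣ) (i : ℕ) : K → ℂ := dlt l (2 * i)

variable (C : Ctx M B b D σ τ r l e F ξ₀ Φ)
include C

omit [Fintype (IrrCharacter D)] in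
theorem Ctx.a_ord : orderOf ((σ ^ r : K) : G) = 4 := by
  rw [Subgroup.orderOf_coe, C.semi.a_ord]

omit [Fintype (IrrCharacter D)] in
theorem Ctx.mem_of_supp (g x : G) (h : Supp ((σ ^ r : K) : G) g)
    (h' : Supp ((σ ^ r : K) : G) (x * g * x⁻¹)) : x ∈ K :=
  C.norm x (QuaternionDefect.Supp.conj_eq_or_inv C.a_ord h h')

omit [Fintype (IrrCharacter D)] in
theorem Ctx.adm_fX (i : ℕ) : Adm D σ (fX l i) := by
  refine ⟨fun g y => C.semi.dlt_conj (g := (g : K)) y.2 i, fun x _ hx => dlt_of_notMem hx _,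
    fun x hx hx2 => ?_⟩
  rcases C.semi.eq_one_or_z hx hx2 with rfl | rfl
  · exact dlt_one _
  · exact C.semi.dlt_z i

omit [Fintype (IrrCharacter D)] in
theorem Ctx.adm_fY {i : ℕ} (hi : i < r) : Adm D σ (sdl l r i) := by
  refine ⟨fun g y => C.semi.sdl_conj (g := (g : K)) y.2 hi, fun x _ hx => sdl_of_notMem hx _,
    fun x hx hx2 => ?_⟩
  rcases C.semi.eq_one_or_z hx hx2 with rfl | rfl
  · exact sdl_one _
  · exact C.semi.sdl_z hi

omit [Fintype (IrrCharacter D)] in
/-- A rotation of order at least 4 among the images puts an element in the support. -/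
theorem Ctx.supp_of_image {g u x : K} (hu : u ∈ Subgroup.zpowers g)
    (hx : x * u * x⁻¹ ∈ Subgroup.zpowers σ) (hu2 : u * u ≠ 1) :
    Supp ((σ ^ r : K) : G) (g : G) := by
  obtain ⟨m, hm⟩ := C.semi.exists_pow_eq_a hx fun e => hu2 (by
    rwa [show x * u * x⁻¹ * (x * u * x⁻¹) = x * (u * u) * x⁻¹ by group, conj_eq_one_iff] at e)
  have h1 : u ^ m = x⁻¹ * σ ^ r * x⁻¹⁻¹ := by rw [← hm, conj_pow]; group
  obtain ⟨k, hk⟩ := (mem_powers_iff_mem_zpowers.2 hu : u ∈ Submonoid.powers g)
  simp only at hk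
  rcases C.norm' x⁻¹ with e' | e'
  · exact ⟨k * m, by rw [← SubgroupClass.coe_pow, pow_mul, hk, h1, e']⟩
  · exact ⟨k * m * 3, by
      rw [← SubgroupClass.coe_pow, pow_mul, pow_mul, hk, h1, e', inv_pow,
        show ((σ ^ r) ^ 3)⁻¹ = σ ^ r from inv_eq_of_mul_eq_one_right (by
          rw [← pow_succ, C.semi.a_four])]⟩

/-- The combinations of admissible functions are supported on the support set. -/
theorem Ctx.supp_comb {f : K → ℂ} (hf : Adm D σ f) (g : K) (hne : comb Φ f g ≠ 0) :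
    Supp ((σ ^ r : K) : G) (g : G) := by
  obtain ⟨u, s, hk, hs, hc, rfl⟩ := exists_decomp (p := 2) g
  by_contra hno
  refine hne ?_
  rw [C.loc.comb_apply_const hf.cls hk hs hc (v := 0) fun x hx => ?_, zero_mul]
  by_cases hxσ : x * u * x⁻¹ ∈ Subgroup.zpowers σ
  · by_cases hu2 : u * u = 1
    · exact hf.sq _ hxσ (by
        rw [show x * u * x⁻¹ * (x * u * x⁻¹) = x * (u * u) * x⁻¹ by group, hu2]; group)
    · exact absurd (C.supp_of_image (mem_zpowers_pPart ⟨s, rfl, hc, hk, hs⟩) hxσ hu2) hno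
  · exact hf.off _ hx hxσ

/-- The number of constituents. -/
theorem Ctx.exists_nat_constituent (η : IrrCharacter D) (χ : IrrCharacter G) :
    ∃ n : ℕ, classInner ((Φ η : IrrCharacter K) : K → ℂ) (fun k : K => (χ : G → ℂ) k) = n :=
  IsChar.classInner_eq_natCast (Char.IsIrr.isCharacter (Φ η : IrrCharacter K).2)
    (IsChar.restrict K (Char.IsIrr.isCharacter χ.2))

/-- The multiplicity of a constituent. -/
noncomputable def Ctx.num (η : IrrCharacter D) (χ : IrrCharacter G) : ℕ :=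
  (C.exists_nat_constituent η χ).choose

theorem Ctx.num_spec (η : IrrCharacter D) (χ : IrrCharacter G) :
    classInner ((Φ η : IrrCharacter K) : K → ℂ) (fun k : K => (χ : G → ℂ) k) = C.num η χ :=
  (C.exists_nat_constituent η χ).choose_spec

theorem Ctx.exists_int_X (η : IrrCharacter D) (i : ℕ) :
    ∃ m : ℤ, classInner (fun g : D => dlt l (2 * i) (g : K)) (η : D → ℂ) = m := by
  obtain ⟨a, ha⟩ := C.semi.exists_nat_mult η 0
  obtain ⟨c, hc⟩ := C.semi.exists_nat_mult η (2 * i)
  exact ⟨(a : ℤ) - c, by rw [C.semi.classInner_dlt, ha, hc]; push_cast; rfl⟩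

theorem Ctx.exists_int_Y (η : IrrCharacter D) (i : ℕ) :
    ∃ m : ℤ, i < r → classInner (fun g : D => sdl l r i (g : K)) (η : D → ℂ) = m := by
  obtain ⟨a, ha⟩ := C.semi.exists_nat_mult η (4 * i + 1)
  obtain ⟨c, hc⟩ := C.semi.exists_nat_mult η 1
  exact ⟨(a : ℤ) - c, fun hi => by rw [C.semi.classInner_sdl η hi, ha, hc]; push_cast; rfl⟩

/-- The integer attached to a function of even index and a character of `D`. -/
noncomputable def Ctx.ddX (η : IrrCharacter D) (i : ℕ) : ℤ := (C.exists_int_X η i).choose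

theorem Ctx.ddX_spec (η : IrrCharacter D) (i : ℕ) :
    classInner (fun g : D => dlt l (2 * i) (g : K)) (η : D → ℂ) = C.ddX η i :=
  (C.exists_int_X η i).choose_spec

/-- The integer attached to a function of odd index and a character of `D`. -/
noncomputable def Ctx.ddY (η : IrrCharacter D) (i : ℕ) : ℤ := (C.exists_int_Y η i).choose

theorem Ctx.ddY_spec (η : IrrCharacter D) {i : ℕ} (hi : i < r) :
    classInner (fun g : D => sdl l r i (g : K)) (η : D → ℂ) = C.ddY η i :=
  (C.exists_int_Y η i).choose_spec hi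

/-- The vectors of even index. -/
noncomputable def Ctx.X (i : ℕ) (χ : IrrCharacter G) : ℤ :=
  ∑ η : IrrCharacter D, C.ddX η i * C.num η χ

/-- The vectors of odd index. -/
noncomputable def Ctx.Y (i : ℕ) (χ : IrrCharacter G) : ℤ :=
  ∑ η : IrrCharacter D, C.ddY η i * C.num η χ

theorem Ctx.X_spec (i : ℕ) (χ : IrrCharacter G) :
    classInner (indFun K (comb Φ (fX l i))) (χ : G → ℂ) = C.X i χ := by
  rw [frobenius_reciprocity _ _ (Char.IsIrr.isClassFunction χ.2), C.loc.classInner_comb_right,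
    Ctx.X]
  push_cast
  exact Finset.sum_congr rfl fun η _ => by rw [C.num_spec, ← C.ddX_spec]; rfl

theorem Ctx.Y_spec {i : ℕ} (hi : i < r) (χ : IrrCharacter G) :
    classInner (indFun K (comb Φ (sdl l r i))) (χ : G → ℂ) = C.Y i χ := by
  rw [frobenius_reciprocity _ _ (Char.IsIrr.isClassFunction χ.2), C.loc.classInner_comb_right,
    Ctx.Y]
  push_cast
  exact Finset.sum_congr rfl fun η _ => by rw [C.num_spec, ← C.ddY_spec η hi]

/-- The multiplicities vanish outside the block. -/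
theorem Ctx.coeff_eq_zero {f : K → ℂ} (hf : Adm D σ f) {χ : IrrCharacter G} (hχ : χ ∉ B) :
    classInner (indFun K (comb Φ f)) (χ : G → ℂ) = 0 := by
  have := Fintype.ofFinite (IrrCharacter K)
  rw [frobenius_reciprocity _ _ (Char.IsIrr.isClassFunction χ.2)]
  set φ : K → ℂ := fun k => (χ : G → ℂ) k with hφ
  have h1 : classInner (comb Φ f) (blockPart b φ) = classInner (comb Φ f) φ := by
    rw [C.loc.classInner_comb_right, C.loc.classInner_comb_right]
    refine Finset.sum_congr rfl fun η _ => ?_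
    congr 1
    rw [← classInner_conj_symm, classInner_blockPart, if_pos (Φ η).2, classInner_conj_symm]
  rw [← h1, classInner, Finset.sum_eq_zero fun g _ => ?_, mul_zero]
  by_cases hg : comb Φ f g = 0
  · rw [hg, zero_mul]
  · rw [hφ, C.vanish χ hχ g (C.supp_comb hf g hg), map_zero, mul_zero]

/-- The induced generalized character as a combination of the members of the block. -/
theorem Ctx.indFun_eq_sum {f : K → ℂ} (hf : Adm D σ f) (v : IrrCharacter G → ℤ)
    (hv : ∀ χ : IrrCharacter G, classInner (indFun K (comb Φ f)) (χ : G → ℂ) = v χ) :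
    indFun K (comb Φ f) = ∑ χ ∈ (Set.toFinite B).toFinset, (v χ : ℂ) • (χ : G → ℂ) := by
  have := Fintype.ofFinite (IrrCharacter G)
  rw [Finset.sum_subset (Finset.subset_univ (Set.toFinite B).toFinset) fun χ _ hχ => by
      rw [← hv, C.coeff_eq_zero hf fun h => hχ ((Set.Finite.mem_toFinset _).2 h), zero_smul]]
  conv_lhs => rw [classFunction_eq_sum (isClassFunction_indFun K (comb Φ f))]
  exact Finset.sum_congr rfl fun χ _ => by rw [hv]

theorem Ctx.sum_mul_eq {f f' : K → ℂ} (hf : Adm D σ f) (hf' : Adm D σ f')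
    (v v' : IrrCharacter G → ℤ)
    (hv : ∀ χ : IrrCharacter G, classInner (indFun K (comb Φ f)) (χ : G → ℂ) = v χ)
    (hv' : ∀ χ : IrrCharacter G, classInner (indFun K (comb Φ f')) (χ : G → ℂ) = v' χ) :
    ((∑ χ ∈ (Set.toFinite B).toFinset, v χ * v' χ : ℤ) : ℂ) =
      classInner (fun x : D => f (x : K)) (fun x : D => f' (x : K)) := by
  rw [← C.loc.classInner_comb hf.cls hf'.cls,
    ← QuaternionDefect.classInner_indFun_indFun C.mem_of_supp (isClassFunction_comb _) (C.supp_comb hf)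
      (C.supp_comb hf'), C.indFun_eq_sum hf v hv, classInner_sum_left]
  push_cast
  refine Finset.sum_congr rfl fun χ _ => ?_
  rw [classInner_smul_left, ← classInner_conj_symm, hv', map_intCast]

/-- The relations on the regular elements. -/
theorem Ctx.sum_regular {f : K → ℂ} (hf : Adm D σ f) (v : IrrCharacter G → ℤ)
    (hv : ∀ χ : IrrCharacter G, classInner (indFun K (comb Φ f)) (χ : G → ℂ) = v χ) {g : G}
    (hg : ¬ 2 ∣ orderOf g) :
    ∑ χ ∈ (Set.toFinite B).toFinset, (v χ : ℂ) * (χ : G → ℂ) g = 0 := by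
  have h := congrFun (C.indFun_eq_sum hf v hv) g
  simp only [Finset.sum_apply, Pi.smul_apply, smul_eq_mul] at h
  rw [← h]
  refine DihedralDefect.indFun_eq_zero_of_not_supp (C.supp_comb hf) fun x hx => hg ?_
  obtain ⟨m, hm⟩ := hx
  have h1 : orderOf ((σ ^ r : K) : G) ∣ orderOf (x⁻¹ * g * x) := hm ▸ orderOf_pow_dvd m
  have h3 := MulEquiv.orderOf_eq (MulAut.conj x⁻¹) g
  rw [MulAut.conj_apply, inv_inv] at h3
  rw [C.a_ord, h3] at h1
  exact dvd_trans (by norm_num) h1

theorem Ctx.gram_X {i j : ℕ} (hi : i ∈ Finset.Icc 1 r) (hj : j ∈ Finset.Icc 1 r) :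
    ∑ χ ∈ (Set.toFinite B).toFinset, C.X i χ * C.X j χ =
      2 + (if i = j then 1 else 0) + (if i = r ∧ j = r then 1 else 0) := by
  have h := (C.sum_mul_eq (C.adm_fX i) (C.adm_fX j) _ _ (C.X_spec i) (C.X_spec j)).trans
    (C.semi.classInner_dlt_dlt hi hj)
  exact_mod_cast h

theorem Ctx.gram_Y {i j : ℕ} (hi : i ∈ Finset.Ico 1 r) (hj : j ∈ Finset.Ico 1 r) :
    ∑ χ ∈ (Set.toFinite B).toFinset, C.Y i χ * C.Y j χ = 1 + (if i = j then 1 else 0) := by
  have hir := (Finset.mem_Ico.1 hi).2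
  have hjr := (Finset.mem_Ico.1 hj).2
  have h := (C.sum_mul_eq (C.adm_fY hir) (C.adm_fY hjr) _ _ (C.Y_spec hir) (C.Y_spec hjr)).trans
    (C.semi.classInner_sdl_sdl hi hj)
  exact_mod_cast h

theorem Ctx.gram_XY {i j : ℕ} (hj : j ∈ Finset.Ico 1 r) :
    ∑ χ ∈ (Set.toFinite B).toFinset, C.X i χ * C.Y j χ = 0 := by
  have hjr := (Finset.mem_Ico.1 hj).2
  have h := (C.sum_mul_eq (C.adm_fX i) (C.adm_fY hjr) _ _ (C.X_spec i) (C.Y_spec hjr)).trans
    (C.semi.classInner_dlt_sdl i hjr)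
  exact_mod_cast h

end CfsgLib.Blocks.SemiDefect
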