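import Cfsg.Agent.Lib.Blocks.SemiDefect.Local
import Cfsg.Agent.Lib.Blocks.KleinIsometry.Shape
import Cfsg.Agent.Lib.Pairs.BlockFusion

/-!
# The pair at the involution outside the rotations

If the pair at `τ` below the maximal pair is not fused with the one at the central involution,
then its block has a Klein four defect group and a single irreducible Brauer character. When the
central involution is central in the group, this is the only pair of the block at `τ`.
-/

set_option autoImplicit false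

namespace CfsgLib.Blocks.SemiDefect

open Cfsg CfsgLib.Blocks CfsgLib.Pairs CfsgLib.Star CfsgLib.Char CfsgLib.Blocks.DihedralDefect
open scoped Classical ComplexConjugate

variable {G : Type*} [Group G]

section Group

variable {P : Subgroup G} {σ τ : G} {r : ℕ} {l : Subgroup.zpowers σ →* ℂˣ} (h : Semi P σ τ r l)
include h

theorem Semi.τ_ord : orderOf τ = 2 :=
  orderOf_eq_prime (by rw [pow_two]; exact h.τ_sq)
    fun e => h.notMem (e ▸ one_mem _)

theorem Semi.τ_pow : ∃ k : ℕ, orderOf τ = 2 ^ k := ⟨1, by rw [h.τ_ord, pow_one]⟩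

theorem Semi.τ_ne_z : τ ≠ σ ^ (2 * r) := fun e => h.notMem (e ▸ Subgroup.npow_mem_zpowers σ _)

/-- The involutions of `P` other than the central one are conjugate to `τ`. -/
theorem Semi.exists_conj_eq_τ_of_ne {x : G} (hx : x ∈ P) (hx2 : x * x = 1) (hx1 : x ≠ 1)
    (hxz : x ≠ σ ^ (2 * r)) : ∃ y ∈ P, y * x * y⁻¹ = τ :=
  h.exists_conj_eq_τ hx (fun hσ => (h.eq_one_or_z hσ hx2).elim hx1 hxz) hx2

/-- The centralizer of `⟨τ⟩` in `P`. -/
theorem Semi.mem_centralizerIn {g : G} :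
    g ∈ P ⊓ Subgroup.centralizer (Subgroup.zpowers τ : Set G) ↔
      g = 1 ∨ g = σ ^ (2 * r) ∨ g = τ ∨ g = σ ^ (2 * r) * τ := by
  have hzτ : Commute (σ ^ (2 * r)) τ := h.z_commute h.memτ
  constructor
  · rintro ⟨hg, hc⟩
    exact h.commute_τ hg (Subgroup.mem_centralizer_iff.1 hc τ (Subgroup.mem_zpowers τ)).symm
  · intro hg
    rw [Subgroup.mem_inf, DihedralDefect.centralizer_zpowers, Subgroup.mem_centralizer_singleton_iff]
    have hzP : σ ^ (2 * r) ∈ P := P.pow_mem h.memσ _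
    rcases hg with rfl | rfl | rfl | rfl
    · exact ⟨one_mem _, by rw [one_mul, mul_one]⟩
    · exact ⟨hzP, hzτ.eq⟩
    · exact ⟨h.memτ, rfl⟩
    · exact ⟨mul_mem hzP h.memτ, (hzτ.mul_left (Commute.refl τ)).eq⟩

theorem Semi.card_centralizerIn :
    Nat.card (P ⊓ Subgroup.centralizer (Subgroup.zpowers τ : Set G) : Subgroup G) = 4 := by
  have hz1 := h.z_ne
  have hτ1 : τ ≠ 1 := fun e => h.notMem (e ▸ one_mem _)
  have hτz := h.τ_ne_z
  have hzτ1 : σ ^ (2 * r) * τ ≠ 1 := fun e => hτz (by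
    rw [← mul_right_inj (σ ^ (2 * r)), e, h.z_sq])
  have hzτz : σ ^ (2 * r) * τ ≠ σ ^ (2 * r) := fun e => hτ1 (mul_eq_left.1 e)
  have hzττ : σ ^ (2 * r) * τ ≠ τ := fun e => hz1 (mul_eq_right.1 e)
  rw [← SetLike.coe_sort_coe, Nat.card_coe_set_eq, show
    ((P ⊓ Subgroup.centralizer (Subgroup.zpowers τ : Set G) : Subgroup G) : Set G) =
      {1, σ ^ (2 * r), τ, σ ^ (2 * r) * τ} from Set.ext fun g => h.mem_centralizerIn.trans (by simp),
    Set.ncard_insert_of_notMem (by simp [hz1.symm, hτ1.symm, hzτ1.symm]),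
    Set.ncard_insert_of_notMem (by simp [hτz.symm, hzτz.symm]),
    Set.ncard_pair hzττ.symm]

theorem Semi.sq_of_mem_centralizerIn {g : G}
    (hg : g ∈ P ⊓ Subgroup.centralizer (Subgroup.zpowers τ : Set G)) : g * g = 1 := by
  rcases h.mem_centralizerIn.1 hg with rfl | rfl | rfl | rfl
  · exact one_mul 1
  · exact h.z_sq
  · exact h.τ_sq
  · have hzτ : Commute (σ ^ (2 * r)) τ := h.z_commute h.memτ
    rw [← pow_two, hzτ.mul_pow, pow_two, pow_two, h.z_sq, h.τ_sq, one_mul]

theorem Semi.isKleinFour_centralizerIn :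
    IsKleinFour ((P ⊓ Subgroup.centralizer (Subgroup.zpowers τ : Set G)).subgroupOf
      (Subgroup.centralizer (Subgroup.zpowers τ : Set G))) := by
  have hc : Nat.card ((P ⊓ Subgroup.centralizer (Subgroup.zpowers τ : Set G)).subgroupOf
      (Subgroup.centralizer (Subgroup.zpowers τ : Set G))) = 4 := by
    rw [Nat.card_congr (Subgroup.subgroupOfEquivOfLe inf_le_right).toEquiv, h.card_centralizerIn]
  refine ⟨hc, ?_⟩
  have : Finite ((P ⊓ Subgroup.centralizer (Subgroup.zpowers τ : Set G)).subgroupOf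
      (Subgroup.centralizer (Subgroup.zpowers τ : Set G))) :=
    Nat.finite_of_card_ne_zero (by omega)
  have : Nontrivial ((P ⊓ Subgroup.centralizer (Subgroup.zpowers τ : Set G)).subgroupOf
      (Subgroup.centralizer (Subgroup.zpowers τ : Set G))) :=
    Finite.one_lt_card_iff_nontrivial.1 (by omega)
  refine Monoid.exponent_eq_prime_iff Nat.prime_two |>.2 fun g hg => ?_
  refine orderOf_eq_prime (p := 2) ?_ hg
  rw [pow_two]
  exact Subtype.ext (Subtype.ext (h.sq_of_mem_centralizerIn (Subgroup.mem_subgroupOf.1 g.2)))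

end Group

variable [Fintype G] {M : Ideal AlgInt} [M.IsPrime] [Fact (Nat.Prime 2)]
  {B : Set (IrrCharacter G)} {P : Subgroup G}
  {c : Set (IrrCharacter (Subgroup.centralizer (P : Set G)))}
  {σ τ : G} {r : ℕ} {l : Subgroup.zpowers σ →* ℂˣ}
  {fτ : Set (IrrCharacter (Subgroup.centralizer (Subgroup.zpowers τ : Set G)))}
  (hM : IsPModular 2 M) (hmax : IsMaximalBrauerPair 2 M B P c) (h : Semi P σ τ r l)
  (hle : SubpairLE 2 M (Subgroup.zpowers τ) fτ P c)
include hM hmax h hle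

omit [Fintype G] [M.IsPrime] [Fact (Nat.Prime 2)] hM hmax hle in
/-- The image of `τ` under a conjugation into `P` is an involution of `P`. -/
theorem image_τ {w : BrauerPairIdx G} (hw : w.1 = Subgroup.zpowers τ) {x : G}
    (hx : Relation.ReflTransGen (NormalSubpairRel 2 M) (conjPair x w) ⟨P, c⟩) :
    x * τ * x⁻¹ ∈ P ∧ x * τ * x⁻¹ * (x * τ * x⁻¹) = 1 ∧ x * τ * x⁻¹ ≠ 1 := by
  refine ⟨le_of_subpairLE hx ⟨τ, hw ▸ Subgroup.mem_zpowers τ, rfl⟩, ?_, fun e => ?_⟩
  · rw [show x * τ * x⁻¹ * (x * τ * x⁻¹) = x * (τ * τ) * x⁻¹ by group, h.τ_sq]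
    group
  · exact h.notMem ((conj_eq_one_iff.1 e).symm ▸ one_mem _)

/-- An unfused pair at `τ` has a Klein four defect group. -/
theorem isDefectGroup_of_unfused
    (hnf : ∀ g : G, Relation.ReflTransGen (NormalSubpairRel 2 M)
      (conjPair g ⟨Subgroup.zpowers τ, fτ⟩) ⟨P, c⟩ → g * τ * g⁻¹ ≠ σ ^ (2 * r)) :
    IsDefectGroup 2 M fτ ((P ⊓ Subgroup.centralizer (Subgroup.zpowers τ : Set G)).subgroupOf
      (Subgroup.centralizer (Subgroup.zpowers τ : Set G))) := by
  have hF := isBlockFusionSystemOn_blockFusion hM hmax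
  refine (isFullyCentralized_iff hF hM hle).1 ⟨le_of_subpairLE hle, fun R hR => ?_⟩
  obtain ⟨g, ⟨f', h1, h2⟩, rfl⟩ := (isConj_iff_mor hF).1 hR
  obtain rfl : f' = fτ := by
    have := eq_of_subpairLE hM hmax.1.1 h1 (b := ⟨Subgroup.zpowers τ, fτ⟩) hle rfl
    simpa using this
  obtain ⟨hP', h2', h1'⟩ := image_τ h (w := ⟨Subgroup.zpowers τ, f'⟩) rfl h2
  obtain ⟨y, hy, hyτ⟩ := h.exists_conj_eq_τ_of_ne hP' h2' h1' (hnf g h2)
  have e : Cfsg.FusionSystem.centralizerIn P ((Subgroup.zpowers τ).map (MulAut.conj g).toMonoidHom) =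
      (Cfsg.FusionSystem.centralizerIn P (Subgroup.zpowers τ)).map (MulAut.conj y⁻¹).toMonoidHom := by
    have hτ : τ = y * (g * τ * g⁻¹) * y⁻¹ := hyτ.symm
    ext v
    simp only [Cfsg.FusionSystem.centralizerIn, MonoidHom.map_zpowers, map_conj_eq, Subgroup.mem_inf,
      DihedralDefect.centralizer_zpowers, Subgroup.mem_centralizer_singleton_iff, inv_inv,
      MulEquiv.coe_toMonoidHom, MulAut.conj_apply]
    refine and_congr ⟨fun hv => mul_mem (mul_mem hy hv) (inv_mem hy),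
      fun hv => by simpa [mul_assoc] using mul_mem (mul_mem (inv_mem hy) hv) hy⟩ ?_
    constructor
    · intro hv
      rw [hτ]
      calc y * v * y⁻¹ * (y * (g * τ * g⁻¹) * y⁻¹) = y * (v * (g * τ * g⁻¹)) * y⁻¹ := by group
        _ = y * ((g * τ * g⁻¹) * v) * y⁻¹ := by rw [hv]
        _ = _ := by group
    · intro hv
      have hgt : g * τ * g⁻¹ = y⁻¹ * τ * y := by
        calc g * τ * g⁻¹ = y⁻¹ * (y * (g * τ * g⁻¹) * y⁻¹) * y := by group
          _ = _ := by rw [hyτ]
      rw [hgt]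
      calc v * (y⁻¹ * τ * y) = y⁻¹ * (y * v * y⁻¹ * τ) * y := by group
        _ = y⁻¹ * (τ * (y * v * y⁻¹)) * y := by rw [hv]
        _ = _ := by group
  rw [e, card_map_conj]

/-- An unfused pair at `τ`: four members, equal on the regular elements. -/
theorem klein_of_unfused
    (hnf : ∀ g : G, Relation.ReflTransGen (NormalSubpairRel 2 M)
      (conjPair g ⟨Subgroup.zpowers τ, fτ⟩) ⟨P, c⟩ → g * τ * g⁻¹ ≠ σ ^ (2 * r)) :
    Nat.card fτ = 4 ∧ KleinIso.EqOnRegular fτ := by
  have hD := isDefectGroup_of_unfused hM hmax h hle hnf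
  have hf : IsPBlock M fτ :=
    ((subpairLE_pairOf_iff hM (a := ⟨Subgroup.zpowers τ, fτ⟩) (b := ⟨P, c⟩) hle B).1 hmax.1).1.2
  have hV := h.isKleinFour_centralizerIn
  have hd : blockDefect 2 fτ = 2 := by
    refine Nat.pow_right_injective le_rfl ?_
    show 2 ^ blockDefect 2 fτ = 2 ^ 2
    rw [← IsDefectGroup.card_eq hM hf hD, hV.card_four]
  have hτC : τ ∈ Subgroup.centralizer (Subgroup.zpowers τ : Set G) := by
    rw [DihedralDefect.centralizer_zpowers]
    exact Subgroup.mem_centralizer_singleton_iff.2 rfl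
  have hrank : blockRank 2 fτ = 1 := by
    refine blockRank_eq_one_of_central hM hf hd hD (x := ⟨τ, hτC⟩)
      (Subgroup.mem_subgroupOf.2 (h.mem_centralizerIn.2 (Or.inr (Or.inr (Or.inl rfl))))) ?_ fun g => ?_
    · rw [Subgroup.orderOf_mk, h.τ_ord]
    · exact Subtype.ext (Subgroup.mem_centralizer_iff.1 g.2 τ (Subgroup.mem_zpowers τ)).symm
  obtain ⟨h4, hcase⟩ := KleinIso.block_shape hM hV hf hD
  exact ⟨h4, (hcase.resolve_right fun e => by rw [hrank] at e; omega).2⟩

omit hM hmax h hle [M.IsPrime] [Fact (Nat.Prime 2)] in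
/-- The part in such a block, on the regular elements. -/
theorem blockPart_eq_sum_mul (heq : KleinIso.EqOnRegular fτ)
    {η₀ : IrrCharacter (Subgroup.centralizer (Subgroup.zpowers τ : Set G))} (hη₀ : η₀ ∈ fτ)
    (θ : Subgroup.centralizer (Subgroup.zpowers τ : Set G) → ℂ)
    {s : Subgroup.centralizer (Subgroup.zpowers τ : Set G)} (hs : ¬ 2 ∣ orderOf s) :
    blockPart fτ θ s = (∑ η ∈ (Set.toFinite fτ).toFinset,
      classInner θ (η : Subgroup.centralizer (Subgroup.zpowers τ : Set G) → ℂ)) *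
        (η₀ : Subgroup.centralizer (Subgroup.zpowers τ : Set G) → ℂ) s := by
  rw [blockPart_eq, finsum_mem_eq_finite_toFinset_sum _ (Set.toFinite fτ), Finset.sum_mul]
  exact Finset.sum_congr rfl fun η hη => by
    rw [heq η ((Set.Finite.mem_toFinset _).1 hη) η₀ hη₀ s hs]

/-- With the central involution in the centre there is one pair at `τ`. -/
theorem pair_eq_of_central (hz : ∀ g : G, Commute (σ ^ (2 * r)) g)
    {f : Set (IrrCharacter (Subgroup.centralizer (Subgroup.zpowers τ : Set G)))}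
    (hf : IsBrauerPairOf 2 M B (Subgroup.zpowers τ) f) : f = fτ := by
  obtain ⟨x, hx⟩ := exists_conj_le hM hmax hf
  obtain ⟨hP', h2', h1'⟩ := image_τ h (w := ⟨Subgroup.zpowers τ, f⟩) rfl hx
  obtain ⟨y, hy, hyτ⟩ := h.exists_conj_eq_τ_of_ne hP' h2' h1' fun e => h.τ_ne_z (by
    calc τ = x⁻¹ * (x * τ * x⁻¹) * x := by group
      _ = σ ^ (2 * r) := by rw [e, mul_assoc, (hz x).eq, inv_mul_cancel_left])
  have h3 := subpairLE_conjPair y hx
  rw [conjPair_of_mem hy, ← conjPair_mul] at h3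
  have hyx : y * x ∈ Subgroup.centralizer (Subgroup.zpowers τ : Set G) := by
    rw [DihedralDefect.centralizer_zpowers, Subgroup.mem_centralizer_singleton_iff]
    calc y * x * τ = y * (x * τ * x⁻¹) * y⁻¹ * (y * x) := by group
      _ = τ * (y * x) := by rw [hyτ]
  rw [mem_pairStab_iff_conjPair.1 (centralizer_le_pairStab _ f hyx)] at h3
  have h4 := eq_of_subpairLE hM hmax.1.1 h3 (b := ⟨Subgroup.zpowers τ, fτ⟩) hle rfl
  simpa using h4

/-- The values on the section of `τ` of the members, the central involution being in the centre. -/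
theorem apply_τ_of_central (hz : ∀ g : G, Commute (σ ^ (2 * r)) g) :
    ∃ η₀ : IrrCharacter (Subgroup.centralizer (Subgroup.zpowers τ : Set G)), ∀ ψ ∈ B,
      ∀ s : Subgroup.centralizer (Subgroup.zpowers τ : Set G), ¬ 2 ∣ orderOf s →
        (ψ : G → ℂ) (τ * (s : G)) =
          (ψ : G → ℂ) τ / (η₀ : Subgroup.centralizer (Subgroup.zpowers τ : Set G) → ℂ) 1 *
            (η₀ : Subgroup.centralizer (Subgroup.zpowers τ : Set G) → ℂ) s := by
  have hB := hmax.1.2.1
  have hf : IsPBlock M fτ :=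
    ((subpairLE_pairOf_iff hM (a := ⟨Subgroup.zpowers τ, fτ⟩) (b := ⟨P, c⟩) hle B).1 hmax.1).1.2
  obtain ⟨-, heq⟩ := klein_of_unfused hM hmax h hle fun g _ e => h.τ_ne_z (by
    calc τ = g⁻¹ * (g * τ * g⁻¹) * g := by group
      _ = σ ^ (2 * r) := by rw [e, mul_assoc, (hz g).eq, inv_mul_cancel_left])
  obtain ⟨η₀, hη₀⟩ := IsPBlock.nonempty hf
  refine ⟨η₀, fun ψ hψ s hs => ?_⟩
  have := Fintype.ofFinite {f : Set (IrrCharacter (Subgroup.centralizer
    (Subgroup.zpowers τ : Set G))) // IsPBlock M f}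
  set θ : Subgroup.centralizer (Subgroup.zpowers τ : Set G) → ℂ := fun k => (ψ : G → ℂ) (τ * (k : G))
    with hθ
  have hcl : IsClassFunction _ θ := fun k y => by
    have hy : Commute τ (y : G) :=
      Subgroup.mem_centralizer_iff.1 y.2 τ (Subgroup.mem_zpowers τ)
    simp only [hθ, Subgroup.coe_mul, Subgroup.coe_inv]
    rw [show τ * ((y : G) * k * (y : G)⁻¹) = (y : G) * (τ * k) * (y : G)⁻¹ by
      simp only [← mul_assoc, hy.eq]]
    exact Char.IsIrr.isClassFunction ψ.2 _ _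
  have key : ∀ s : Subgroup.centralizer (Subgroup.zpowers τ : Set G), ¬ 2 ∣ orderOf s →
      θ s = (∑ η ∈ (Set.toFinite fτ).toFinset,
        classInner θ (η : Subgroup.centralizer (Subgroup.zpowers τ : Set G) → ℂ)) *
          (η₀ : Subgroup.centralizer (Subgroup.zpowers τ : Set G) → ℂ) s := fun s hs => by
    rw [← blockPart_eq_sum_mul heq hη₀ θ hs, ← sum_blockPart (M := M) hcl s,
      Finset.sum_eq_single (⟨fτ, hf⟩ : {f : Set (IrrCharacter (Subgroup.centralizer
        (Subgroup.zpowers τ : Set G))) // IsPBlock M f}) (fun f _ hne => ?_)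
        (fun hn => absurd (Finset.mem_univ _) hn)]
    exact part_eq_zero_of_not_pairOf hM h.τ_pow hB hψ f.2
      (fun hp => hne (Subtype.ext (pair_eq_of_central hM hmax h hle hz hp))) hs
  have h1 := key 1 (by simp)
  simp only [hθ, Subgroup.coe_one, mul_one] at h1
  show θ s = _
  rw [key s hs]
  simp only [hθ]
  rw [h1, mul_div_cancel_right₀ _ (Char.IsIrr.apply_one_ne_zero η₀.2)]

end CfsgLib.Blocks.SemiDefect
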