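import Cfsg.Agent.Lib.Blocks.SemiDefect.Central
import Cfsg.Agent.Lib.Blocks.QuaternionDefect.Restrict
import Cfsg.Agent.Lib.Pairs.AbelianLocal
import Cfsg.Agent.Lib.Blocks.Star.Sections

/-!
# Block parts at the pairs below a maximal pair

The part of a class function at a pair moves with the pair, and the part at a pair `(⟨u⟩, f)`
above `(⟨z⟩, b)` only depends on the part of the restriction to `C(z)` in `b`.
-/

set_option autoImplicit false

namespace CfsgLib.Blocks.SemiDefect

open Cfsg CfsgLib.Blocks CfsgLib.Pairs CfsgLib.Star CfsgLib.Char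
open scoped Classical ComplexConjugate

/-- The block part of a combination. -/
theorem blockPart_combination {C : Type*} [Group C] [Fintype C] (f : Set (IrrCharacter C))
    {ι : Type*} (s : Finset ι) (a : ι → ℂ) (θ : ι → C → ℂ) (y : C) :
    blockPart f (fun c => ∑ i ∈ s, a i * θ i c) y = ∑ i ∈ s, a i * blockPart f (θ i) y := by
  simp only [blockPart_apply, Finset.mul_sum, Finset.sum_mul]
  rw [Finset.sum_comm]
  exact Finset.sum_congr rfl fun i _ => Finset.sum_congr rfl fun c _ => by ring

theorem blockPart_zero {C : Type*} [Group C] [Fintype C] (f : Set (IrrCharacter C)) (y : C) :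
    blockPart f (fun _ => (0 : ℂ)) y = 0 := by
  simp [blockPart_apply]

/-- The coefficient map of the combinations of the members of a block. -/
noncomputable def phiMap {G : Type*} [Group G] [Fintype G] (B : Set (IrrCharacter G))
    (w : QuaternionDefect.mems B → ℂ) (g : G) : ℂ :=
  ∑ χ : QuaternionDefect.mems B, w χ * ((χ : IrrCharacter G) : G → ℂ) g

theorem isClassFunction_phiMap {G : Type*} [Group G] [Fintype G] (B : Set (IrrCharacter G))
    (w : QuaternionDefect.mems B → ℂ) : IsClassFunction G (phiMap B w) := fun g y =>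
  Finset.sum_congr rfl fun χ _ => by rw [Char.IsIrr.isClassFunction χ.1.2]

variable {G : Type*} [Group G] [Fintype G] {M : Ideal AlgInt} [M.IsPrime] [Fact (Nat.Prime 2)]

/-- The part of `θ` at the pair `w` and the element `u` vanishes. -/
def PartZero (θ : G → ℂ) (w : BrauerPairIdx G) (u : G) : Prop :=
  ∀ y : Subgroup.centralizer (w.1 : Set G), ¬ 2 ∣ orderOf y →
    blockPart w.2 (fun c : Subgroup.centralizer (w.1 : Set G) => θ (u * (c : G))) y = 0

omit [M.IsPrime] in
/-- Vanishing of parts moves with the pair. -/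
theorem PartZero.of_conj {θ : G → ℂ} (hθ : IsClassFunction G θ) {x u : G} {w : BrauerPairIdx G}
    (h : PartZero θ (conjPair x w) (x * u * x⁻¹)) : PartZero θ w u := by
  intro y hy
  set φ := centEquiv w.1 x with hφ
  have hφy : ¬ 2 ∣ orderOf (φ y) := by rwa [MulEquiv.orderOf_eq]
  refine Eq.trans ?_ (h (φ y) hφy)
  symm
  show blockPart (conjBlock w.1 x w.2) _ _ = _
  rw [conjBlock_eq]
  have h1 := blockPart_mapBlock φ.symm w.2
    (fun c : Subgroup.centralizer (w.1 : Set G) => θ (u * (c : G))) (φ y)
  rw [MulEquiv.symm_apply_apply] at h1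
  refine Eq.trans ?_ h1
  congr 1
  funext c
  show θ (x * u * x⁻¹ * (c : G)) = θ (u * (x⁻¹ * (c : G) * x))
  rw [← hθ (u * (x⁻¹ * (c : G) * x)) x]
  congr 1
  group

variable {B : Set (IrrCharacter G)}

/-- The part at a pair outside `B` of a combination of members of `B` vanishes. -/
theorem partZero_of_not_pairOf (hM : IsPModular 2 M) (hB : IsPBlock M B) {u : G}
    (hu : ∃ k : ℕ, orderOf u = 2 ^ k)
    {f : Set (IrrCharacter (Subgroup.centralizer (Subgroup.zpowers u : Set G)))} (hf : IsPBlock M f)
    (hnot : ¬ IsBrauerPairOf 2 M B (Subgroup.zpowers u) f) (a : QuaternionDefect.mems B → ℂ) :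
    PartZero (phiMap B a) ⟨Subgroup.zpowers u, f⟩ u := fun y hy => by
  refine (blockPart_combination f Finset.univ a
    (fun χ c => ((χ : IrrCharacter G) : G → ℂ) (u * (c : G))) y).trans ?_
  exact Finset.sum_eq_zero fun χ _ => by
    rw [part_eq_zero_of_not_pairOf hM hu hB ((Set.Finite.mem_toFinset _).1 χ.2) hf hnot hy, mul_zero]

variable {z u : G} {b : Set (IrrCharacter (Subgroup.centralizer (Subgroup.zpowers z : Set G)))}
  {f : Set (IrrCharacter (Subgroup.centralizer (Subgroup.zpowers u : Set G)))}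

/-- If the part in `b` of the restriction vanishes, so do the parts at the pairs above
`(⟨z⟩, b)`. -/
theorem partZero_of_blockPart_eq_zero (hM : IsPModular 2 M) (hu : ∃ k : ℕ, orderOf u = 2 ^ k)
    (hsub : IsNormalSubpair 2 M (Subgroup.zpowers z) b (Subgroup.zpowers u) f) {θ : G → ℂ}
    (hθ : IsClassFunction (Subgroup.centralizer (Subgroup.zpowers z : Set G))
      fun k : Subgroup.centralizer (Subgroup.zpowers z : Set G) => θ (k : G))
    (h0 : ∀ k, blockPart b (fun k : Subgroup.centralizer (Subgroup.zpowers z : Set G) =>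
      θ (k : G)) k = 0) :
    PartZero θ ⟨Subgroup.zpowers u, f⟩ u := by
  obtain ⟨hb, hf, hle, -, -, hval⟩ := hsub
  have hQH : Subgroup.zpowers u ≤ (Subgroup.centralizer (Subgroup.zpowers z : Set G)) := fun x hx => by
    refine Subgroup.mem_centralizer_iff.2 fun y hy => ?_
    obtain ⟨i, rfl⟩ := Subgroup.mem_zpowers_iff.1 (hle hy)
    obtain ⟨j, rfl⟩ := Subgroup.mem_zpowers_iff.1 hx
    exact (Commute.zpow_zpow_self u i j).eq
  have hC : Subgroup.centralizer (Subgroup.zpowers u : Set G) ≤ (Subgroup.centralizer (Subgroup.zpowers z : Set G)) := centralizer_le_of_le hle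
  obtain ⟨⟨R, g⟩, ha⟩ := exists_samePair_down (b := (⟨Subgroup.zpowers u, f⟩ : BrauerPairIdx G))
    hQH hC
  have hu' : u ∈ (Subgroup.centralizer (Subgroup.zpowers z : Set G)) := hQH (Subgroup.mem_zpowers u)
  have hR : R = Subgroup.zpowers (⟨u, hu'⟩ : (Subgroup.centralizer (Subgroup.zpowers z : Set G))) := by
    refine Subgroup.map_injective (Subgroup.centralizer (Subgroup.zpowers z : Set G)).subtype_injective ?_
    rw [MonoidHom.map_zpowers]
    exact ha.1
  subst hR
  have hco : ∀ k : (Subgroup.centralizer (Subgroup.zpowers z : Set G)), blockCoeff b k = subgroupBlockCoeff (Subgroup.centralizer (Subgroup.zpowers z : Set G)) b (k : G) := fun k => by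
    unfold subgroupBlockCoeff
    rw [dif_pos k.2]
  have hpair : IsBrauerPairOf 2 M b (Subgroup.zpowers (⟨u, hu'⟩ : (Subgroup.centralizer (Subgroup.zpowers z : Set G)))) g :=
    ⟨ha.brauerPair_iff.2 hf, hb.2, (ha.memLocalIdeal_iff hco).2 hval⟩
  obtain ⟨-, φ, hφ, hm⟩ := ha
  have hu'' : ∃ k : ℕ, orderOf (⟨u, hu'⟩ : (Subgroup.centralizer (Subgroup.zpowers z : Set G))) = 2 ^ k := by
    obtain ⟨k, hk⟩ := hu
    exact ⟨k, by rwa [Subgroup.orderOf_mk]⟩
  have := Fintype.ofFinite (IrrCharacter (Subgroup.centralizer (Subgroup.zpowers z : Set G)))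
  intro y hy
  have hy' : ¬ 2 ∣ orderOf (φ.symm y) := by rwa [MulEquiv.orderOf_eq]
  have h1 := blockPart_mapBlock φ f
    (fun c : Subgroup.centralizer (Subgroup.zpowers u : Set G) => θ (u * (c : G))) (φ.symm y)
  rw [MulEquiv.apply_symm_apply, show mapBlock φ f = g from hm] at h1
  rw [← h1]
  have hexp : (fun k : Subgroup.centralizer (Subgroup.zpowers (⟨u, hu'⟩ : (Subgroup.centralizer (Subgroup.zpowers z : Set G))) : Set (Subgroup.centralizer (Subgroup.zpowers z : Set G))) =>
      θ (u * (φ k : G))) = fun k : Subgroup.centralizer (Subgroup.zpowers (⟨u, hu'⟩ :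
        (Subgroup.centralizer (Subgroup.zpowers z : Set G))) :
          Set (Subgroup.centralizer (Subgroup.zpowers z : Set G))) => ∑ ψ : IrrCharacter (Subgroup.centralizer (Subgroup.zpowers z : Set G)),
        classInner (fun k : (Subgroup.centralizer (Subgroup.zpowers z : Set G)) => θ (k : G)) (ψ : (Subgroup.centralizer (Subgroup.zpowers z : Set G)) → ℂ) *
          (ψ : (Subgroup.centralizer (Subgroup.zpowers z : Set G)) → ℂ) ((⟨u, hu'⟩ : (Subgroup.centralizer (Subgroup.zpowers z : Set G))) * (k : (Subgroup.centralizer (Subgroup.zpowers z : Set G)))) := by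
    funext k
    rw [hφ, ← classFunction_apply_eq_sum hθ]
    rfl
  rw [hexp, blockPart_combination g Finset.univ _
    (fun (ψ : IrrCharacter (Subgroup.centralizer (Subgroup.zpowers z : Set G))) (k : Subgroup.centralizer (Subgroup.zpowers (⟨u, hu'⟩ : (Subgroup.centralizer (Subgroup.zpowers z : Set G))) : Set (Subgroup.centralizer (Subgroup.zpowers z : Set G)))) => (ψ : (Subgroup.centralizer (Subgroup.zpowers z : Set G)) → ℂ) ((⟨u, hu'⟩ : (Subgroup.centralizer (Subgroup.zpowers z : Set G))) * (k : (Subgroup.centralizer (Subgroup.zpowers z : Set G)))))]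
  refine Finset.sum_eq_zero fun ψ _ => ?_
  by_cases hψ : ψ ∈ b
  · have h2 := classInner_blockPart b (fun k : (Subgroup.centralizer (Subgroup.zpowers z : Set G)) => θ (k : G)) ψ
    rw [if_pos hψ, show blockPart b (fun k : (Subgroup.centralizer (Subgroup.zpowers z : Set G)) => θ (k : G)) = 0 from funext h0,
      Char.classInner_zero_left] at h2
    rw [← h2, zero_mul]
  · rw [part_eq_zero_of_not_pairOf hM hu'' (isPBlock_blockOf ψ) (mem_blockOf_self ψ) hpair.1.2
      (fun h => hψ ((existsUnique_block hM hpair.1).unique h hpair ▸ mem_blockOf_self ψ)) hy',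
      mul_zero]

end CfsgLib.Blocks.SemiDefect
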