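import Cfsg.Agent.Lib.Blocks.SemiDefect.Group
import Cfsg.Agent.Lib.Blocks.QuaternionDefect.RotationInner

/-!
# The rotation functions of a semidihedral group

The functions of even index are `dlt l (2 * i)`; those of odd index are the differences of the sums
`X ^ j + X ^ (6 r - j)` at `j = 4 i + 1` and at `j = 1`, where `X` is the rotation character.
-/

set_option autoImplicit false

namespace CfsgLib.Blocks.SemiDefect

open Cfsg CfsgLib.Pairs CfsgLib.Blocks.DihedralDefect CfsgLib.Blocks.QuaternionDefect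
open scoped Classical ComplexConjugate

variable {K : Type*} [Group K] {D : Subgroup K} {σ τ : K} {r : ℕ}
  {l : Subgroup.zpowers σ →* ℂˣ}

/-- A pair of conjugate powers of the rotation character. -/
noncomputable def epair (r a : ℕ) (X : ℂ) : ℂ := X ^ a + X ^ (6 * r - a)

/-- The functions of odd index on the rotations. -/
noncomputable def sdl (l : Subgroup.zpowers σ →* ℂˣ) (r i : ℕ) : K → ℂ :=
  Function.extend (Subtype.val : Subgroup.zpowers σ → K)
    (fun x => epair r (4 * i + 1) ((l x : ℂˣ) : ℂ) - epair r 1 ((l x : ℂˣ) : ℂ)) 0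

theorem sdl_coe (i : ℕ) (x : Subgroup.zpowers σ) :
    sdl l r i (x : K) = epair r (4 * i + 1) ((l x : ℂˣ) : ℂ) - epair r 1 ((l x : ℂˣ) : ℂ) :=
  Subtype.val_injective.extend_apply _ _ x

theorem sdl_of_notMem {g : K} (hg : g ∉ Subgroup.zpowers σ) (i : ℕ) : sdl l r i g = 0 :=
  Function.extend_apply' _ _ _ fun ⟨a, ha⟩ => hg (ha ▸ a.2)

theorem sdl_one (i : ℕ) : sdl l r i (1 : K) = 0 := by
  rw [show (1 : K) = ((1 : Subgroup.zpowers σ) : K) from rfl, sdl_coe]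
  simp [epair]

variable (h : Semi D σ τ r l)
include h

theorem Semi.l_pow (x : Subgroup.zpowers σ) : ((l x : ℂˣ) : ℂ) ^ (2 * (2 * r)) = 1 := by
  have h1 : x ^ (2 * (2 * r)) = 1 := by
    refine orderOf_dvd_iff_pow_eq_one.1 ?_
    rw [← Subgroup.orderOf_coe, ← h.ord]
    exact orderOf_dvd_of_mem_zpowers x.2
  rw [← Units.val_pow_eq_pow_val, ← map_pow, h1, map_one, Units.val_one]

theorem Semi.l_inj {x : Subgroup.zpowers σ} (hx : ((l x : ℂˣ) : ℂ) = 1) : x = 1 := by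
  obtain ⟨i, hi⟩ := Subgroup.mem_zpowers_iff.1 x.2
  have hxe : x = ⟨σ, Subgroup.mem_zpowers σ⟩ ^ i := Subtype.ext (by
    rw [SubgroupClass.coe_zpow, hi])
  rw [hxe, map_zpow, Units.val_zpow_eq_zpow_val, h.prim.zpow_eq_one_iff_dvd] at hx
  refine Subtype.ext ?_
  rw [Subgroup.coe_one, ← hi, ← orderOf_dvd_iff_zpow_eq_one, h.ord]
  exact hx

theorem Semi.l_z : ((l ⟨σ ^ (2 * r), Subgroup.npow_mem_zpowers σ (2 * r)⟩ : ℂˣ) : ℂ) = -1 := by
  rw [show (⟨σ ^ (2 * r), Subgroup.npow_mem_zpowers σ (2 * r)⟩ : Subgroup.zpowers σ) =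
      ⟨σ, Subgroup.mem_zpowers σ⟩ ^ (2 * r) from rfl, map_pow, Units.val_pow_eq_pow_val]
  exact (h.prim.pow (by have := h.one_le; omega) (mul_comm 2 (2 * r))).eq_neg_one_of_two_right

theorem Semi.conj_l (x : Subgroup.zpowers σ) :
    conj ((l x : ℂˣ) : ℂ) = ((l x : ℂˣ) : ℂ)⁻¹ := by
  have h1 : ‖((l x : ℂˣ) : ℂ)‖ = 1 :=
    Complex.norm_eq_one_of_pow_eq_one (h.l_pow x) (by have := h.one_le; omega)
  exact (Complex.inv_eq_conj h1).symm

theorem Semi.conj_dlt (j : ℕ) (g : K) : conj (dlt l j g) = dlt l j g := by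
  by_cases hg : g ∈ Subgroup.zpowers σ
  · rw [show g = ((⟨g, hg⟩ : Subgroup.zpowers σ) : K) from rfl, dlt_coe]
    simp only [map_sub, map_ofNat, map_pow, map_inv₀, h.conj_l, inv_inv]
    ring
  · rw [dlt_of_notMem hg, map_zero]

theorem Semi.pow_congr (x : Subgroup.zpowers σ) {a b : ℕ} (hab : a ≡ b [MOD 2 * (2 * r)]) :
    ((l x : ℂˣ) : ℂ) ^ a = ((l x : ℂˣ) : ℂ) ^ b := by
  rw [← Nat.mod_add_div a (2 * (2 * r)), ← Nat.mod_add_div b (2 * (2 * r)),
    (show a % (2 * (2 * r)) = b % (2 * (2 * r)) from hab), pow_add, pow_add,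
    pow_mul _ (2 * (2 * r)), pow_mul _ (2 * (2 * r)), h.l_pow, one_pow, one_pow]

/-- The action of `τ` on the rotations. -/
theorem Semi.conj_rot {g : K} (hg : g ∈ Subgroup.zpowers σ) : τ * g * τ⁻¹ = g ^ (2 * r - 1) := by
  obtain ⟨k, rfl⟩ := Subgroup.mem_zpowers_iff.1 hg
  rw [h.conj_zpow, ← zpow_natCast (σ ^ k), ← zpow_mul, Nat.cast_sub (by have := h.two_le; omega)]
  congr 1
  push_cast
  ring

theorem Semi.conj_rotation {y g : K} (hy : y ∈ D) (hg : g ∈ Subgroup.zpowers σ) :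
    y * g * y⁻¹ = g ∨ y * g * y⁻¹ = g ^ (2 * r - 1) := by
  obtain ⟨k, rfl⟩ := Subgroup.mem_zpowers_iff.1 hg
  obtain ⟨i, rfl | rfl⟩ := h.elt y hy
  · exact Or.inl (by rw [(Commute.zpow_zpow_self σ i k).eq, mul_inv_cancel_right])
  · refine Or.inr ?_
    rw [← h.conj_rot ⟨k, rfl⟩, show σ ^ i * τ * σ ^ k * (σ ^ i * τ)⁻¹ =
      σ ^ i * (τ * σ ^ k * τ⁻¹) * (σ ^ i)⁻¹ by group, h.conj_zpow]
    group

theorem Semi.conj_mem_zpowers_iff {y g : K} (hy : y ∈ D) :
    y * g * y⁻¹ ∈ Subgroup.zpowers σ ↔ g ∈ Subgroup.zpowers σ := by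
  refine ⟨fun hc => ?_, fun hg => ?_⟩
  · have e := h.conj_rotation (inv_mem hy) hc
    rw [show y⁻¹ * (y * g * y⁻¹) * y⁻¹⁻¹ = g by group] at e
    rcases e with e | e <;> rw [e]
    exacts [hc, pow_mem hc _]
  · rcases h.conj_rotation hy hg with e | e <;> rw [e]
    exacts [hg, pow_mem hg _]

theorem Semi.pow_twist_even (x : Subgroup.zpowers σ) (i : ℕ) :
    (((l x : ℂˣ) : ℂ) ^ (2 * r - 1)) ^ (2 * i) = (((l x : ℂˣ) : ℂ)⁻¹) ^ (2 * i) := by
  rw [inv_pow]
  refine eq_inv_of_mul_eq_one_left ?_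
  have hr := h.two_le
  rw [← pow_mul, ← pow_add, show (2 * r - 1) * (2 * i) + 2 * i = 2 * (2 * r) * i by
    obtain ⟨s, hs⟩ : ∃ s, 2 * r = s + 1 := ⟨2 * r - 1, by omega⟩
    rw [hs, Nat.add_sub_cancel]; ring, pow_mul, h.l_pow, one_pow]

theorem Semi.pow_twist_odd (x : Subgroup.zpowers σ) {i : ℕ} (hi : i < r) :
    (((l x : ℂˣ) : ℂ) ^ (2 * r - 1)) ^ (4 * i + 1) = ((l x : ℂˣ) : ℂ) ^ (6 * r - (4 * i + 1)) := by
  rw [← pow_mul]
  refine h.pow_congr x ((Nat.modEq_iff_dvd).2 ⟨1 - 2 * (i : ℤ), ?_⟩)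
  have := h.two_le
  push_cast [Nat.cast_sub (show 4 * i + 1 ≤ 6 * r by omega), Nat.cast_sub (show 1 ≤ 2 * r by omega)]
  ring

theorem Semi.pow_twist_twist (x : Subgroup.zpowers σ) :
    (((l x : ℂˣ) : ℂ) ^ (2 * r - 1)) ^ (2 * r - 1) = ((l x : ℂˣ) : ℂ) := by
  conv_rhs => rw [← pow_one ((l x : ℂˣ) : ℂ)]
  rw [← pow_mul]
  refine h.pow_congr x ((Nat.modEq_iff_dvd).2 ⟨1 - (r : ℤ), ?_⟩)
  have := h.two_le
  push_cast [Nat.cast_sub (show 1 ≤ 2 * r by omega)]
  ring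

theorem Semi.l_twist (x : Subgroup.zpowers σ) :
    ((l (x ^ (2 * r - 1)) : ℂˣ) : ℂ) = ((l x : ℂˣ) : ℂ) ^ (2 * r - 1) := by
  rw [map_pow, Units.val_pow_eq_pow_val]

/-- The action of `τ` on the rotations, as a permutation. -/
def Semi.twist : Equiv.Perm (Subgroup.zpowers σ) where
  toFun x := x ^ (2 * r - 1)
  invFun x := x ^ (2 * r - 1)
  left_inv x := mul_inv_eq_one.1 (h.l_inj (by
    rw [map_mul, map_inv, Units.val_mul, Units.val_inv_eq_inv_val, h.l_twist, h.l_twist,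
      h.pow_twist_twist, mul_inv_cancel₀ (Units.ne_zero _)]))
  right_inv x := mul_inv_eq_one.1 (h.l_inj (by
    rw [map_mul, map_inv, Units.val_mul, Units.val_inv_eq_inv_val, h.l_twist, h.l_twist,
      h.pow_twist_twist, mul_inv_cancel₀ (Units.ne_zero _)]))

theorem Semi.twist_apply (x : Subgroup.zpowers σ) : h.twist x = x ^ (2 * r - 1) := rfl

theorem Semi.epair_twist (x : Subgroup.zpowers σ) {i : ℕ} (hi : i < r) :
    epair r (4 * i + 1) (((l x : ℂˣ) : ℂ) ^ (2 * r - 1)) = epair r (4 * i + 1) ((l x : ℂˣ) : ℂ) := by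
  have h1 := h.pow_twist_odd x hi
  have h2 := h.pow_twist_odd (x ^ (2 * r - 1)) hi
  rw [h.l_twist, h.pow_twist_twist] at h2
  rw [epair, epair, h1, ← h2, add_comm]

/-- The functions of even index are invariant under conjugation in `D`. -/
theorem Semi.dlt_conj {g y : K} (hy : y ∈ D) (i : ℕ) :
    dlt l (2 * i) (y * g * y⁻¹) = dlt l (2 * i) g := by
  by_cases hg : g ∈ Subgroup.zpowers σ
  · rcases h.conj_rotation hy hg with e | e <;> rw [e]
    show dlt l (2 * i) (((⟨g, hg⟩ : Subgroup.zpowers σ) ^ (2 * r - 1) : Subgroup.zpowers σ) : K) =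
      dlt l (2 * i) ((⟨g, hg⟩ : Subgroup.zpowers σ) : K)
    rw [dlt_coe, dlt_coe, h.l_twist]
    set X := ((l ⟨g, hg⟩ : ℂˣ) : ℂ)
    rw [show ((X ^ (2 * r - 1))⁻¹) ^ (2 * i) = ((X ^ (2 * r - 1)) ^ (2 * i))⁻¹ from inv_pow _ _,
      h.pow_twist_even, inv_pow, inv_inv]
    ring
  · rw [dlt_of_notMem hg, dlt_of_notMem (mt (h.conj_mem_zpowers_iff hy).1 hg)]

/-- The functions of odd index are invariant under conjugation in `D`. -/
theorem Semi.sdl_conj {g y : K} (hy : y ∈ D) {i : ℕ} (hi : i < r) :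
    sdl l r i (y * g * y⁻¹) = sdl l r i g := by
  by_cases hg : g ∈ Subgroup.zpowers σ
  · rcases h.conj_rotation hy hg with e | e <;> rw [e]
    show sdl l r i (((⟨g, hg⟩ : Subgroup.zpowers σ) ^ (2 * r - 1) : Subgroup.zpowers σ) : K) =
      sdl l r i ((⟨g, hg⟩ : Subgroup.zpowers σ) : K)
    rw [sdl_coe, sdl_coe, h.l_twist, h.epair_twist _ hi,
      show epair r 1 (((l ⟨g, hg⟩ : ℂˣ) : ℂ) ^ (2 * r - 1)) =
        epair r 1 ((l ⟨g, hg⟩ : ℂˣ) : ℂ) from h.epair_twist _ (i := 0) (by omega)]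
  · rw [sdl_of_notMem hg, sdl_of_notMem (mt (h.conj_mem_zpowers_iff hy).1 hg)]

/-- The values at the central involution. -/
theorem Semi.dlt_z (i : ℕ) : dlt l (2 * i) (σ ^ (2 * r)) = 0 := by
  rw [show σ ^ (2 * r) = ((⟨σ ^ (2 * r), Subgroup.npow_mem_zpowers σ _⟩ :
    Subgroup.zpowers σ) : K) from rfl, dlt_coe, h.l_z, show ((-1 : ℂ))⁻¹ = -1 by norm_num,
    pow_mul, neg_one_sq, one_pow]
  ring

theorem Semi.sdl_z {i : ℕ} (hi : i < r) : sdl l r i (σ ^ (2 * r)) = 0 := by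
  rw [show σ ^ (2 * r) = ((⟨σ ^ (2 * r), Subgroup.npow_mem_zpowers σ _⟩ :
    Subgroup.zpowers σ) : K) from rfl, sdl_coe, h.l_z]
  have hodd : ∀ n : ℕ, n % 2 = 1 → (-1 : ℂ) ^ n = -1 := fun n hn => (Nat.odd_iff.2 hn).neg_one_pow
  simp only [epair, hodd (4 * i + 1) (by omega), hodd 1 rfl, hodd (6 * r - (4 * i + 1)) (by omega),
    hodd (6 * r - 1) (by omega)]
  ring

variable [Fintype K]

theorem Semi.card_zpowers : (Fintype.card (Subgroup.zpowers σ) : ℂ) = 2 * ((2 * r : ℕ) : ℂ) := by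
  rw [← Nat.card_eq_fintype_card, Nat.card_zpowers, h.ord]
  push_cast
  ring

/-- The sums of the powers of the rotation character. -/
theorem Semi.sum_l_pow (m : ℕ) :
    ∑ x : Subgroup.zpowers σ, ((l x : ℂˣ) : ℂ) ^ m =
      if 2 * (2 * r) ∣ m then 2 * ((2 * r : ℕ) : ℂ) else 0 := by
  split_ifs with hm
  · obtain ⟨k, rfl⟩ := hm
    rw [Finset.sum_congr rfl fun x _ => by rw [pow_mul, h.l_pow, one_pow], Finset.sum_const,
      Finset.card_univ, nsmul_eq_mul, mul_one, h.card_zpowers]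
  · set g : Subgroup.zpowers σ := ⟨σ, Subgroup.mem_zpowers σ⟩
    have hne : ((l g : ℂˣ) : ℂ) ^ m ≠ 1 := fun e => hm ((h.prim.pow_eq_one_iff_dvd m).1 e)
    have hs : ((l g : ℂˣ) : ℂ) ^ m * ∑ x : Subgroup.zpowers σ, ((l x : ℂˣ) : ℂ) ^ m =
        ∑ x : Subgroup.zpowers σ, ((l x : ℂˣ) : ℂ) ^ m := by
      rw [Finset.mul_sum]
      exact Fintype.sum_equiv (Equiv.mulLeft g) _ _ fun x => by simp [mul_pow]
    by_contra hne0
    exact hne ((mul_eq_right₀ hne0).1 hs)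

theorem Semi.sum_l_inv_pow (m : ℕ) :
    ∑ x : Subgroup.zpowers σ, (((l x : ℂˣ) : ℂ)⁻¹) ^ m =
      if 2 * (2 * r) ∣ m then 2 * ((2 * r : ℕ) : ℂ) else 0 := by
  rw [← h.sum_l_pow m]
  exact Fintype.sum_equiv (Equiv.inv _) _ _ fun x => by simp

omit h in
/-- Sums over `D` against a function on the rotations. -/
theorem sum_rot_mul (hσ : Subgroup.zpowers σ ≤ D) {f : K → ℂ}
    (hf : ∀ g, g ∉ Subgroup.zpowers σ → f g = 0) (F : K → ℂ) :
    ∑ g : D, f (g : K) * F g = ∑ x : Subgroup.zpowers σ, f (x : K) * F x := by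
  rw [← Finset.sum_filter_of_ne (p := fun g : D => (g : K) ∈ Subgroup.zpowers σ) fun g _ hne => by
    by_contra hg
    exact hne (by rw [hf _ hg, zero_mul])]
  refine Finset.sum_bij (fun g hg => ⟨(g : K), (Finset.mem_filter.1 hg).2⟩)
    (fun _ _ => Finset.mem_univ _) (fun a _ b _ e => Subtype.ext (congrArg Subtype.val e :))
    (fun x _ => ⟨⟨(x : K), hσ x.2⟩, Finset.mem_filter.2 ⟨Finset.mem_univ _, x.2⟩, rfl⟩)
    fun _ _ => rfl

theorem Semi.classInner_dlt_dlt {i j : ℕ} (hi : i ∈ Finset.Icc 1 r) (hj : j ∈ Finset.Icc 1 r) :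
    classInner (fun g : D => dlt l (2 * i) (g : K)) (fun g : D => dlt l (2 * j) (g : K)) =
      2 + (if i = j then 1 else 0) + (if i = r ∧ j = r then 1 else 0) := by
  rw [Finset.mem_Icc] at hi hj
  have hq := h.one_le
  have key : ∀ x : Subgroup.zpowers σ, dlt l (2 * i) (x : K) * dlt l (2 * j) (x : K) =
      4 - 2 * ((l x : ℂˣ) : ℂ) ^ (2 * i) - 2 * (((l x : ℂˣ) : ℂ)⁻¹) ^ (2 * i) -
        2 * ((l x : ℂˣ) : ℂ) ^ (2 * j) - 2 * (((l x : ℂˣ) : ℂ)⁻¹) ^ (2 * j) +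
        ((l x : ℂˣ) : ℂ) ^ (2 * i + 2 * j) + (((l x : ℂˣ) : ℂ)⁻¹) ^ (2 * i + 2 * j) +
        ((l x : ℂˣ) : ℂ) ^ (2 * i + (2 * (2 * r) - 2 * j)) +
        (((l x : ℂˣ) : ℂ)⁻¹) ^ (2 * i + (2 * (2 * r) - 2 * j)) := by
    intro x
    have e := h.l_pow x
    have e0 : ((l x : ℂˣ) : ℂ) ≠ 0 := Units.ne_zero _
    have e' : (((l x : ℂˣ) : ℂ)⁻¹) ^ (2 * (2 * r)) = 1 := by rw [inv_pow, e, inv_one]
    rw [dlt_coe, dlt_coe, pow_add, pow_add, pow_add, pow_add,
      pow_sub₀ _ e0 (by omega : 2 * j ≤ 2 * (2 * r)),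
      pow_sub₀ _ (inv_ne_zero e0) (by omega : 2 * j ≤ 2 * (2 * r)), e, e', one_mul, one_mul,
      ← inv_pow, ← inv_pow, inv_inv]
    ring
  have hc : (Nat.card D : ℂ) = 4 * ((2 * r : ℕ) : ℂ) := by rw [h.card]; push_cast; ring
  simp only [classInner, h.conj_dlt]
  rw [sum_rot_mul h.zpowers_le (f := dlt l (2 * i)) (fun g hg => dlt_of_notMem hg _)
      (fun g => dlt l (2 * j) g), Finset.sum_congr rfl fun x _ => key x, hc]
  simp only [Finset.sum_add_distrib, Finset.sum_sub_distrib, ← Finset.mul_sum, h.sum_l_pow,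
    h.sum_l_inv_pow, Finset.sum_const, Finset.card_univ, nsmul_eq_mul, h.card_zpowers]
  have hi' : ¬ 2 * (2 * r) ∣ 2 * i := fun hd => by have := Nat.le_of_dvd (by omega) hd; omega
  have hj' : ¬ 2 * (2 * r) ∣ 2 * j := fun hd => by have := Nat.le_of_dvd (by omega) hd; omega
  have hij : (2 * (2 * r) ∣ 2 * i + 2 * j) ↔ (i = r ∧ j = r) := by
    refine ⟨fun hd => ?_, fun ⟨a, b⟩ => ⟨1, by omega⟩⟩
    have := Nat.le_of_dvd (by omega) hd
    omega
  have hdif : (2 * (2 * r) ∣ 2 * i + (2 * (2 * r) - 2 * j)) ↔ i = j := by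
    refine ⟨fun hd => ?_, fun e => ⟨1, by omega⟩⟩
    obtain ⟨k, hk⟩ := hd
    rcases k with _ | _ | k
    · simp at hk; omega
    · omega
    · have h2 : 2 * (2 * r) * (k + 1 + 1) = 2 * (2 * r) * k + 4 * (2 * r) := by ring
      rw [h2] at hk
      omega
  have hr0 : (r : ℂ) ≠ 0 := Nat.cast_ne_zero.2 (by omega)
  simp only [if_neg hi', if_neg hj', hij, hdif]
  push_cast
  split_ifs <;> field_simp <;> ring

/-- Pairs of powers of the rotation character are orthogonal. -/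
theorem Semi.sum_epair_mul {i j : ℕ} (hi : i < r) (hj : j < r) :
    ∑ x : Subgroup.zpowers σ, epair r (4 * i + 1) ((l x : ℂˣ) : ℂ) *
      conj (epair r (4 * j + 1) ((l x : ℂˣ) : ℂ)) =
      if i = j then 4 * ((2 * r : ℕ) : ℂ) else 0 := by
  obtain ⟨n, hn⟩ : ∃ n, 2 * (2 * r) = n + 1 := ⟨2 * (2 * r) - 1, by omega⟩
  have hconj : ∀ (x : Subgroup.zpowers σ) (b : ℕ),
      conj (((l x : ℂˣ) : ℂ) ^ b) = ((l x : ℂˣ) : ℂ) ^ (n * b) := fun x b => by
    rw [map_pow, h.conj_l, inv_pow]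
    refine inv_eq_of_mul_eq_one_left ?_
    rw [← pow_add, show n * b + b = 2 * (2 * r) * b by rw [hn]; ring, pow_mul, h.l_pow, one_pow]
  have hz : ∀ a b : ℕ, 2 * (2 * r) ∣ a + n * b ↔ ((2 * (2 * r) : ℕ) : ℤ) ∣ (a : ℤ) - b := fun a b => by
    rw [← Int.natCast_dvd_natCast, ← dvd_add_left (dvd_mul_right ((2 * (2 * r) : ℕ) : ℤ) (b : ℤ))
      (b := (a : ℤ) - b), hn]
    push_cast
    ring_nf
  have h4 : ∀ a b : ℕ, ((2 * (2 * r) : ℕ) : ℤ) ∣ (a : ℤ) - b → (4 : ℤ) ∣ (a : ℤ) - b := fun a b hd =>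
    (show (4 : ℤ) ∣ ((2 * (2 * r) : ℕ) : ℤ) from ⟨r, by push_cast; ring⟩).trans hd
  have hsmall : ∀ a b : ℕ, a < 6 * r → b < 6 * r → (a < b + 4 * r ∧ b < a + 4 * r) →
      (((2 * (2 * r) : ℕ) : ℤ) ∣ (a : ℤ) - b ↔ a = b) := fun a b _ _ hab => by
    refine ⟨fun hd => ?_, fun e => by rw [e, sub_self]; exact dvd_zero _⟩
    have := Int.eq_zero_of_dvd_of_natAbs_lt_natAbs hd (by omega)
    omega
  obtain ⟨s, hs⟩ := h.even
  have hmul : ∀ a b c d : ℂ, (a + b) * (c + d) = a * c + a * d + (b * c + b * d) :=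
    fun a b c d => by ring
  simp only [epair, map_add, hconj, hmul, ← pow_add, Finset.sum_add_distrib, h.sum_l_pow, hz]
  rw [if_neg (c := ((2 * (2 * r) : ℕ) : ℤ) ∣ ((4 * i + 1 : ℕ) : ℤ) - ((6 * r - (4 * j + 1) : ℕ) : ℤ))
      (fun hd => by have := h4 _ _ hd; omega),
    if_neg (c := ((2 * (2 * r) : ℕ) : ℤ) ∣ ((6 * r - (4 * i + 1) : ℕ) : ℤ) - ((4 * j + 1 : ℕ) : ℤ))
      (fun hd => by have := h4 _ _ hd; omega)]
  by_cases hij : i = j
  · rw [if_pos hij, hij, if_pos (by rw [sub_self]; exact dvd_zero _),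
      if_pos (by rw [sub_self]; exact dvd_zero _)]
    ring
  · rw [if_neg hij, if_neg (by rw [hsmall _ _ (by omega) (by omega) (by omega)]; omega),
      if_neg (by rw [hsmall _ _ (by omega) (by omega) (by omega)]; omega)]
    ring

theorem Semi.classInner_sdl_sdl {i j : ℕ} (hi : i ∈ Finset.Ico 1 r) (hj : j ∈ Finset.Ico 1 r) :
    classInner (fun g : D => sdl l r i (g : K)) (fun g : D => sdl l r j (g : K)) =
      1 + (if i = j then 1 else 0) := by
  rw [Finset.mem_Ico] at hi hj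
  have hc : (Nat.card D : ℂ) = 4 * ((2 * r : ℕ) : ℂ) := by rw [h.card]; push_cast; ring
  have hs := fun a b (ha : a < r) (hb : b < r) => h.sum_epair_mul ha hb
  have h10 : ∀ a, epair r 1 a = epair r (4 * 0 + 1) a := fun a => rfl
  rw [classInner, sum_rot_mul h.zpowers_le (f := sdl l r i) (fun g hg => sdl_of_notMem hg _)
    (fun g => conj (sdl l r j g)), hc]
  simp only [sdl_coe, h10, map_sub, sub_mul, mul_sub, Finset.sum_sub_distrib]
  rw [hs i j hi.2 hj.2, hs 0 j (by omega) hj.2, hs i 0 hi.2 (by omega), hs 0 0 (by omega) (by omega),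
    if_neg (show ¬ 0 = j by omega), if_neg (show ¬ i = 0 by omega)]
  have hr0 : (r : ℂ) ≠ 0 := Nat.cast_ne_zero.2 (by omega)
  push_cast
  split_ifs <;> field_simp <;> ring

theorem Semi.classInner_dlt_sdl (i : ℕ) {j : ℕ} (hj : j < r) :
    classInner (fun g : D => dlt l (2 * i) (g : K)) (fun g : D => sdl l r j (g : K)) = 0 := by
  rw [← CfsgLib.Char.classInner_conj_symm, classInner,
    sum_rot_mul h.zpowers_le (f := sdl l r j) (fun g hg => sdl_of_notMem hg _)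
      (fun g => conj (dlt l (2 * i) g))]
  simp only [h.conj_dlt]
  have hodd : ∀ a : ℕ, a % 2 = 1 →
      ∑ x : Subgroup.zpowers σ, ((l x : ℂˣ) : ℂ) ^ a * dlt l (2 * i) (x : K) = 0 := by
    intro a ha
    have hnd : ∀ m : ℕ, m % 2 = 1 → ¬ 2 * (2 * r) ∣ m := fun m hm hd => by
      obtain ⟨c, hc⟩ := hd
      rw [hc, mul_assoc, Nat.mul_mod_right] at hm
      omega
    rw [Finset.sum_congr rfl (g := fun x : Subgroup.zpowers σ => 2 * ((l x : ℂˣ) : ℂ) ^ a -
      ((l x : ℂˣ) : ℂ) ^ (a + 2 * i) - ((l x : ℂˣ) : ℂ) ^ (a + (2 * (2 * r) - 1) * (2 * i)))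
      fun x _ => ?_]
    · simp only [Finset.sum_sub_distrib, ← Finset.mul_sum, h.sum_l_pow]
      rw [if_neg (hnd _ ha), if_neg (hnd _ (by omega)),
        if_neg (hnd _ (by rw [Nat.add_mod, Nat.mul_mod]; simp [ha]))]
      ring
    · have e : (((l x : ℂˣ) : ℂ)⁻¹) = ((l x : ℂˣ) : ℂ) ^ (2 * (2 * r) - 1) := by
        refine inv_eq_of_mul_eq_one_left ?_
        rw [← pow_succ, Nat.sub_add_cancel (by have := h.two_le; omega), h.l_pow]
      rw [dlt_coe, e, ← pow_mul, pow_add, pow_add]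
      ring
  rw [Finset.sum_congr rfl (g := fun x : Subgroup.zpowers σ =>
    ((l x : ℂˣ) : ℂ) ^ (4 * j + 1) * dlt l (2 * i) (x : K) +
      ((l x : ℂˣ) : ℂ) ^ (6 * r - (4 * j + 1)) * dlt l (2 * i) (x : K) -
      ((l x : ℂˣ) : ℂ) ^ 1 * dlt l (2 * i) (x : K) -
      ((l x : ℂˣ) : ℂ) ^ (6 * r - 1) * dlt l (2 * i) (x : K)) fun x _ => by
    rw [sdl_coe, epair, epair]; ring]
  simp only [Finset.sum_add_distrib, Finset.sum_sub_distrib]
  rw [hodd _ (by omega), hodd _ (by omega), hodd _ rfl, hodd _ (by omega)]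
  simp

theorem Semi.mult_eq (f : K → ℂ) (j : ℕ) : mult l f j = (2 * ((2 * r : ℕ) : ℂ))⁻¹ *
    ∑ x : Subgroup.zpowers σ, ((l x : ℂˣ) : ℂ) ^ j * conj (f x) := by
  rw [mult, Nat.card_eq_fintype_card, h.card_zpowers]

theorem Semi.exists_nat_mult (η : IrrCharacter D) (j : ℕ) :
    ∃ k : ℕ, mult l (extendByZero D (η : D → ℂ)) j = k := by
  let ι : Subgroup.zpowers σ →* D := Subgroup.inclusion h.zpowers_le
  have hres := CfsgLib.Char.IsChar.comp ι (CfsgLib.Char.IsIrr.isCharacter η.2)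
  obtain ⟨k, hk⟩ := CfsgLib.Char.IsChar.classInner_eq_natCast
    (CfsgLib.Char.IsIrr.isCharacter (CfsgLib.Char.isIrrCharacter_linear (l ^ j))) hres
  refine ⟨k, ?_⟩
  rw [← hk, classInner, mult]
  congr 1
  refine Finset.sum_congr rfl fun x _ => ?_
  rw [show (x : K) = ((ι x : D) : K) from rfl, extendByZero_coe']
  simp

omit h in
/-- A function invariant under the twist. -/
def IsTwistInv (r : ℕ) (σ : K) (f : K → ℂ) : Prop :=
  ∀ x : Subgroup.zpowers σ, f ((x ^ (2 * r - 1) : Subgroup.zpowers σ) : K) = f (x : K)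

theorem Semi.isTwistInv (η : IrrCharacter D) :
    IsTwistInv r σ (extendByZero D (η : D → ℂ)) := fun x => by
  have e1 : ((x ^ (2 * r - 1) : Subgroup.zpowers σ) : K) =
      (((⟨τ, h.memτ⟩ : D) * ⟨x, h.zpowers_le x.2⟩ * (⟨τ, h.memτ⟩ : D)⁻¹ : D) : K) :=
    (h.conj_rot x.2).symm
  rw [e1, extendByZero_coe', CfsgLib.Char.IsIrr.isClassFunction η.2]
  exact (extendByZero_coe' η ⟨x, h.zpowers_le x.2⟩).symm

theorem Semi.sum_twist {f : K → ℂ} (hf : IsTwistInv r σ f) (g : ℂ → ℂ) :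
    ∑ x : Subgroup.zpowers σ, g (((l x : ℂˣ) : ℂ) ^ (2 * r - 1)) * conj (f x) =
      ∑ x : Subgroup.zpowers σ, g ((l x : ℂˣ) : ℂ) * conj (f x) :=
  Fintype.sum_equiv h.twist _ _ fun x => by
    rw [h.twist_apply, h.l_twist, hf x]

theorem Semi.sum_inv_pow_even {f : K → ℂ} (hf : IsTwistInv r σ f) (i : ℕ) :
    ∑ x : Subgroup.zpowers σ, (((l x : ℂˣ) : ℂ)⁻¹) ^ (2 * i) * conj (f x) =
      ∑ x : Subgroup.zpowers σ, ((l x : ℂˣ) : ℂ) ^ (2 * i) * conj (f x) := by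
  rw [← h.sum_twist hf fun X => X ^ (2 * i)]
  simp only [h.pow_twist_even]

theorem Semi.sum_pow_odd {f : K → ℂ} (hf : IsTwistInv r σ f) {i : ℕ} (hi : i < r) :
    ∑ x : Subgroup.zpowers σ, ((l x : ℂˣ) : ℂ) ^ (6 * r - (4 * i + 1)) * conj (f x) =
      ∑ x : Subgroup.zpowers σ, ((l x : ℂˣ) : ℂ) ^ (4 * i + 1) * conj (f x) := by
  rw [← h.sum_twist hf fun X => X ^ (4 * i + 1)]
  exact Finset.sum_congr rfl fun x _ => by rw [h.pow_twist_odd x hi]

/-- The inner product with a function of even index. -/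
theorem Semi.classInner_dlt (η : IrrCharacter D) (i : ℕ) :
    classInner (fun g : D => dlt l (2 * i) (g : K)) (η : D → ℂ) =
      mult l (extendByZero D (η : D → ℂ)) 0 - mult l (extendByZero D (η : D → ℂ)) (2 * i) := by
  set F : K → ℂ := extendByZero D (η : D → ℂ) with hF
  have hFg : ∀ g : D, (η : D → ℂ) g = F g := fun g => (extendByZero_coe' η g).symm
  have hc : (Nat.card D : ℂ) = 4 * ((2 * r : ℕ) : ℂ) := by rw [h.card]; push_cast; ring
  rw [classInner, Finset.sum_congr rfl fun g _ => by rw [hFg g],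
    sum_rot_mul h.zpowers_le (f := dlt l (2 * i)) (fun g hg => dlt_of_notMem hg _)
      (fun g => conj (F g)), hc, h.mult_eq, h.mult_eq]
  rw [Finset.sum_congr rfl (g := fun x : Subgroup.zpowers σ =>
    2 * (((l x : ℂˣ) : ℂ) ^ 0 * conj (F x)) -
      ((l x : ℂˣ) : ℂ) ^ (2 * i) * conj (F x) -
      (((l x : ℂˣ) : ℂ)⁻¹) ^ (2 * i) * conj (F x)) fun x _ => by rw [dlt_coe]; ring]
  simp only [Finset.sum_sub_distrib, ← Finset.mul_sum]
  have hsw := h.sum_inv_pow_even (h.isTwistInv η) i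
  rw [← hF] at hsw
  rw [hsw]
  have hr0 : (r : ℂ) ≠ 0 := Nat.cast_ne_zero.2 (by have := h.two_le; omega)
  push_cast
  field_simp
  ring

/-- The inner product with a function of odd index. -/
theorem Semi.classInner_sdl (η : IrrCharacter D) {i : ℕ} (hi : i < r) :
    classInner (fun g : D => sdl l r i (g : K)) (η : D → ℂ) =
      mult l (extendByZero D (η : D → ℂ)) (4 * i + 1) - mult l (extendByZero D (η : D → ℂ)) 1 := by
  set F : K → ℂ := extendByZero D (η : D → ℂ) with hF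
  have hFg : ∀ g : D, (η : D → ℂ) g = F g := fun g => (extendByZero_coe' η g).symm
  have hc : (Nat.card D : ℂ) = 4 * ((2 * r : ℕ) : ℂ) := by rw [h.card]; push_cast; ring
  rw [classInner, Finset.sum_congr rfl fun g _ => by rw [hFg g],
    sum_rot_mul h.zpowers_le (f := sdl l r i) (fun g hg => sdl_of_notMem hg _)
      (fun g => conj (F g)), hc, h.mult_eq, h.mult_eq]
  have h0 := h.sum_pow_odd (h.isTwistInv η) (i := 0) (by omega)
  have h1 := h.sum_pow_odd (h.isTwistInv η) hi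
  rw [← hF] at h0 h1
  simp only [mul_zero, zero_add] at h0
  simp only [sdl_coe, epair, add_mul, sub_mul, Finset.sum_add_distrib, Finset.sum_sub_distrib]
  rw [h0, h1]
  have hr0 : (r : ℂ) ≠ 0 := Nat.cast_ne_zero.2 (by omega)
  push_cast
  field_simp
  ring

/-- The multiplicities, by orbits of the twist. -/
theorem Semi.sum_mult_orbits {f : K → ℂ} (hf : IsTwistInv r σ f) :
    ∑ j ∈ Finset.range (2 * (2 * r)), mult l f j =
      mult l f 0 + mult l f (2 * r) + 2 * ∑ i ∈ Finset.Ico 1 r, mult l f (2 * i) +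
        2 * ∑ i ∈ Finset.range r, mult l f (4 * i + 1) := by
  have hsplit : ∀ n, ∑ j ∈ Finset.range (2 * n), mult l f j =
      ∑ i ∈ Finset.range n, mult l f (2 * i) + ∑ i ∈ Finset.range n, mult l f (2 * i + 1) := fun n => by
    induction n with
    | zero => simp
    | succ n ih =>
      rw [mul_add, mul_one, Finset.sum_range_succ, Finset.sum_range_succ, ih,
        Finset.sum_range_succ, Finset.sum_range_succ]
      ring
  have hsplit4 : ∀ n, ∑ i ∈ Finset.range (2 * n), mult l f (2 * i + 1) =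
      ∑ i ∈ Finset.range n, mult l f (4 * i + 1) + ∑ i ∈ Finset.range n, mult l f (4 * i + 3) :=
    fun n => by
    induction n with
    | zero => simp
    | succ n ih =>
      rw [mul_add, mul_one, Finset.sum_range_succ, Finset.sum_range_succ, ih,
        Finset.sum_range_succ, Finset.sum_range_succ, show 2 * (2 * n) + 1 = 4 * n + 1 by ring,
        show 2 * (2 * n + 1) + 1 = 4 * n + 3 by ring]
      ring
  have hr := h.two_le
  have hodd : ∑ i ∈ Finset.range r, mult l f (4 * i + 3) =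
      ∑ i ∈ Finset.range r, mult l f (4 * i + 1) := by
    simp only [h.mult_eq, ← Finset.mul_sum]
    congr 1
    rw [Finset.sum_comm, Finset.sum_comm (s := Finset.range r)]
    simp only [← Finset.sum_mul]
    rw [← h.sum_twist hf fun X => ∑ i ∈ Finset.range r, X ^ (4 * i + 3)]
    refine Finset.sum_congr rfl fun x _ => ?_
    congr 1
    set X := ((l x : ℂˣ) : ℂ)
    have hgeo : ∀ Y : ℂ, Y ^ (2 * (2 * r)) = 1 → Y ^ 4 ≠ 1 →
        ∀ c, ∑ i ∈ Finset.range r, Y ^ (4 * i + c) = 0 := fun Y hY hY4 c => by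
      simp only [pow_add, pow_mul, ← Finset.sum_mul]
      refine mul_eq_zero_of_left ((mul_eq_zero.1 ?_).resolve_right (sub_ne_zero.2 hY4)) _
      rw [geom_sum_mul, ← pow_mul, show 4 * r = 2 * (2 * r) by ring, hY, sub_self]
    have h2 : X ^ (2 * (2 * r)) = 1 := h.l_pow x
    have h3 : (X ^ (2 * r - 1)) ^ (2 * (2 * r)) = 1 := by
      rw [pow_right_comm, h2, one_pow]
    by_cases hX : X ^ 4 = 1
    · obtain ⟨s, hs⟩ := h.even
      have e3 : X ^ (2 * r - 1) = X ^ 3 := by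
        rw [show 2 * r - 1 = 4 * (s - 1) + 3 by omega, pow_add, pow_mul, hX, one_pow, one_mul]
      refine Finset.sum_congr rfl fun i _ => ?_
      rw [e3, ← pow_mul, show 3 * (4 * i + 3) = 4 * (3 * i + 2) + 1 by ring, pow_add _ (4 * i),
        pow_add _ (4 * (3 * i + 2)), pow_mul X 4, pow_mul X 4, hX, one_pow, one_pow]
    · have h4 : (X ^ (2 * r - 1)) ^ 4 ≠ 1 := fun e => hX (by
        have e2 : ((X ^ (2 * r - 1)) ^ (2 * r - 1)) ^ 4 = 1 := by
          rw [pow_right_comm (X ^ (2 * r - 1)), e, one_pow]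
        rwa [h.pow_twist_twist] at e2)
      rw [hgeo _ h3 h4, hgeo _ h2 hX]
  have heven : ∀ i, i ≤ 2 * r → mult l f (2 * (2 * r - i)) = mult l f (2 * i) := fun i hi => by
    rw [h.mult_eq, h.mult_eq, ← h.sum_inv_pow_even hf i]
    congr 1
    refine Finset.sum_congr rfl fun x _ => ?_
    congr 1
    rw [inv_pow]
    refine (inv_eq_of_mul_eq_one_left ?_).symm
    rw [← pow_add, show 2 * (2 * r - i) + 2 * i = 2 * (2 * r) by omega, h.l_pow]
  rw [hsplit, hsplit4, hodd, show 2 * r = r + r by ring, Finset.sum_range_add]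
  have e1 : ∑ i ∈ Finset.range r, mult l f (2 * i) =
      mult l f 0 + ∑ i ∈ Finset.Ico 1 r, mult l f (2 * i) := by
    rw [Finset.range_eq_Ico, Finset.sum_eq_sum_Ico_succ_bot (by omega : 0 < r), mul_zero]
  have e2 : ∑ i ∈ Finset.range r, mult l f (2 * (r + i)) =
      mult l f (2 * r) + ∑ i ∈ Finset.Ico 1 r, mult l f (2 * i) := by
    rw [Finset.range_eq_Ico, Finset.sum_eq_sum_Ico_succ_bot (by omega : 0 < r), add_zero]
    congr 1
    refine Finset.sum_bij (fun i _ => r - i) (fun i hi => ?_) (fun a ha b hb e => ?_)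
      (fun i hi => ⟨r - i, ?_, ?_⟩) (fun i hi => ?_) <;>
      simp only [Finset.mem_Ico, zero_add] at * <;> try omega
    rw [← heven (r + i) (by omega)]
    congr 1
    omega
  rw [e1, e2, show r + r = 2 * r by ring]
  ring

/-- The multiplicities add up to the value at `1`. -/
theorem Semi.sum_mult (f : K → ℂ) :
    ∑ j ∈ Finset.range (2 * (2 * r)), mult l f j = conj (f 1) := by
  simp only [h.mult_eq, ← Finset.mul_sum]
  rw [Finset.sum_comm, Finset.sum_eq_single (1 : Subgroup.zpowers σ)]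
  · simp only [map_one, Units.val_one, one_pow, one_mul, Subgroup.coe_one, Finset.sum_const,
      Finset.card_range, nsmul_eq_mul]
    have hr0 : (r : ℂ) ≠ 0 := Nat.cast_ne_zero.2 (by have := h.one_le; omega)
    push_cast
    field_simp
  · intro x _ hx
    rw [← Finset.sum_mul]
    refine mul_eq_zero_of_left ?_ _
    have h1 : ((l x : ℂˣ) : ℂ) ≠ 1 := fun e => hx (h.l_inj e)
    exact (mul_eq_zero.1 (by rw [geom_sum_mul, h.l_pow x, sub_self] :
      (∑ j ∈ Finset.range (2 * (2 * r)), ((l x : ℂˣ) : ℂ) ^ j) * (((l x : ℂˣ) : ℂ) - 1) = 0)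
      ).resolve_right (sub_ne_zero.2 h1)
  · exact fun hn => absurd (Finset.mem_univ _) hn

/-- An eigenfunction of the central involution has one parity of multiplicities. -/
theorem Semi.mult_eq_zero {f : K → ℂ} {s : ℂ}
    (hf : ∀ x : Subgroup.zpowers σ, f (σ ^ (2 * r) * (x : K)) = s * f x) {j : ℕ}
    (hs : (-1 : ℂ) ^ j * conj s = -1) : mult l f j = 0 := by
  rw [mult]
  refine mul_eq_zero_of_right _ ?_
  set w : Subgroup.zpowers σ := ⟨σ ^ (2 * r), Subgroup.npow_mem_zpowers σ _⟩ with hw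
  have h1 : ∑ x : Subgroup.zpowers σ, ((l x : ℂˣ) : ℂ) ^ j * conj (f x) =
      -∑ x : Subgroup.zpowers σ, ((l x : ℂˣ) : ℂ) ^ j * conj (f x) := by
    conv_lhs => rw [← Equiv.sum_comp (Equiv.mulLeft w)]
    rw [← Finset.sum_neg_distrib]
    refine Finset.sum_congr rfl fun x _ => ?_
    rw [Equiv.coe_mulLeft, map_mul, Units.val_mul, mul_pow, hw, h.l_z, Subgroup.coe_mul, hf,
      map_mul]
    linear_combination (((l x : ℂˣ) : ℂ) ^ j * conj (f x)) * hs
  exact self_eq_neg.1 h1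

end CfsgLib.Blocks.SemiDefect
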