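import Cfsg.Agent.Lib.Blocks.SemiDefect.Rotation
import Cfsg.Agent.Lib.Blocks.DihedralDefect.Induce
import Cfsg.Agent.Lib.Blocks.QuaternionDefect.Setting

/-!
# The local block at a rotation of order 4

Let `a = σ ^ r` in a semiernion defect group. The idempotent of the block of `C(a)` below the
maximal pair is that of a nilpotent block of `N(⟨a⟩)` with the same defect group.
-/

set_option autoImplicit false

namespace CfsgLib.Blocks.SemiDefect

open Cfsg CfsgLib.Blocks CfsgLib.Pairs CfsgLib.Star CfsgLib.Char CfsgLib.Blocks.DihedralDefect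
  CfsgLib.Blocks.QuaternionDefect
open scoped Classical ComplexConjugate

variable {G : Type*} [Group G] [Fintype G] {M : Ideal AlgInt} [M.IsPrime] [Fact (Nat.Prime 2)]
  {B : Set (IrrCharacter G)}

/-- A block with semiernion defect group in which `σ ^ r` spans a normal subgroup is nilpotent. -/
theorem exists_loc (hM : IsPModular 2 M) (hB : IsPBlock M B) {D : Subgroup G}
    (hD : IsDefectGroup 2 M B D) {σ τ : G} {r : ℕ} {l : Subgroup.zpowers σ →* ℂˣ}
    (h : Semi D σ τ r l) (hn : ∀ g : G, g * σ ^ r * g⁻¹ = σ ^ r ∨ g * σ ^ r * g⁻¹ = (σ ^ r)⁻¹) :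
    ∃ (e : Set (IrrCharacter (Subgroup.centralizer (D : Set G)))) (F : FusionSystem D)
      (ξ₀ : IrrCharacter G) (Φ : IrrCharacter D ≃ B), Loc M B D e F ξ₀ Φ := by
  obtain ⟨e, he⟩ := exists_pairOf_of_isDefectGroup hM hB hD
  have hmax := isMaximal_of_isDefectGroup hM he hD
  have hF := isBlockFusionSystemOn_blockFusion hM hmax
  have hsat := isSaturated_of_isBlockFusionSystemOn hF hM
  have hinner : blockFusion hM hmax = innerFusionSystem D := by
    refine CfsgLib.Fusion.eq_inner_of_isPGroup_autGroup h.isPGroup hsat fun Q hQ => ?_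
    rintro ⟨α, hα⟩
    have : Finite (MulAut Q) := CfsgLib.Fusion.finite_mulAut_of_le (S := D) hQ
    obtain ⟨g, hg, -⟩ := (mem_hom_iff hF).1 ((CfsgLib.Fusion.mem_autGroup_iff hQ).1 hα)
    have hsgn : ∀ x : Q, (x : G) = σ ^ r → α x = x ∨ α x = x⁻¹ := fun x hx => by
      have h1 : ((α x : Q) : G) = g * (x : G) * g⁻¹ := hg x
      rcases hn g with e' | e'
      · exact Or.inl (Subtype.ext (by rw [h1, hx, e']))
      · exact Or.inr (Subtype.ext (by rw [h1, Subgroup.coe_inv, hx, e']))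
    have hgz : g * σ ^ (2 * r) * g⁻¹ = σ ^ (2 * r) := by
      rw [← a_sq_eq, ← conj_pow]
      rcases hn g with e' | e' <;> rw [e']
      rw [inv_pow, a_sq_eq, inv_eq_of_mul_eq_one_right h.z_sq]
    have hfixz : ∀ x : Q, (x : G) = σ ^ (2 * r) → ∀ n : ℕ, (α ^ n) x = x := fun x hx n => by
      induction n with
      | zero => simp
      | succ n ih =>
        rw [pow_succ', MulAut.mul_apply, ih]
        refine Subtype.ext ?_
        have h1 : ((α x : Q) : G) = g * (x : G) * g⁻¹ := hg x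
        rw [h1, hx, hgz]
    obtain ⟨v, m, hm, hvm⟩ := Nat.exists_eq_two_pow_mul_odd (orderOf_pos α).ne'
    refine ⟨v, Subtype.ext ?_⟩
    rw [SubgroupClass.coe_pow, Subgroup.coe_one]
    have hαm : (α ^ 2 ^ v) ^ m = 1 := by rw [← pow_mul, ← hvm, pow_orderOf_eq_one]
    refine h.aut_eq_one hQ hm hαm (fun x hx => fix_of_sign hm hαm ?_) fun x hx => hfixz x hx _
    have : ∀ n : ℕ, (α ^ n) x = x ∨ (α ^ n) x = x⁻¹ := fun n => by
      induction n with
      | zero => simp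
      | succ n ih =>
        rw [pow_succ', MulAut.mul_apply]
        rcases ih with e' | e' <;> rw [e']
        · exact hsgn x hx
        · rcases hsgn x hx with e'' | e'' <;> rw [map_inv, e'']
          · exact Or.inr rfl
          · exact Or.inl (inv_inv x)
    exact this _
  have hinn : ∀ Q : Subgroup G, (blockFusion hM hmax).Hom Q = (innerFusionSystem D).Hom Q :=
    fun Q => by rw [hinner]
  have hnil := nilpotent_of_eq_inner hF hM hinn
  obtain ⟨ξ₀, hξ, hξ0⟩ := exists_height_zero (p := 2) (IsPBlock.nonempty hB)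
  obtain ⟨Φ, hΦ⟩ := exists_equiv_of_nilpotent hM hF hξ hinn hnil hξ0
  exact ⟨e, _, ξ₀, Φ, hM, hF, hinn, hnil, hξ, hξ0, hΦ⟩

variable {K : Subgroup G} {b : Set (IrrCharacter K)} {D : Subgroup K} {σ τ : K} {r : ℕ}
  {l : Subgroup.zpowers σ →* ℂˣ}
  {e : Set (IrrCharacter (Subgroup.centralizer (D : Set K)))} {F : FusionSystem D}
  {ξ₀ : IrrCharacter K} {Φ : IrrCharacter D ≃ b}

/-- The local block of a block with semiernion defect group at a rotation of order 4. -/
structure Ctx (M : Ideal AlgInt) [M.IsPrime] (B : Set (IrrCharacter G)) (b : Set (IrrCharacter K))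
    (D : Subgroup K) (σ τ : K) (r : ℕ) (l : Subgroup.zpowers σ →* ℂˣ)
    (e : Set (IrrCharacter (Subgroup.centralizer (D : Set K)))) (F : FusionSystem D)
    (ξ₀ : IrrCharacter K) (Φ : IrrCharacter D ≃ b) : Prop where
  semi : Semi D σ τ r l
  loc : Loc M b D e F ξ₀ Φ
  block : IsPBlock M B
  norm : ∀ x : G, x * ((σ ^ r : K) : G) * x⁻¹ = ((σ ^ r : K) : G) ∨
    x * ((σ ^ r : K) : G) * x⁻¹ = ((σ ^ r : K) : G)⁻¹ → x ∈ K
  norm' : ∀ x : K, x * σ ^ r * x⁻¹ = σ ^ r ∨ x * σ ^ r * x⁻¹ = (σ ^ r)⁻¹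
  vanish : ∀ χ ∉ B, ∀ g : K, Supp ((σ ^ r : K) : G) (g : G) →
    blockPart b (fun k : K => (χ : G → ℂ) (k : G)) g = 0
  defect : blockDefect 2 b = blockDefect 2 B
  pow : 2 ^ blockDefect 2 B = 8 * r

omit [Fintype G] [M.IsPrime] [Fact (Nat.Prime 2)] in
theorem Semi.conj_a_cases {D : Subgroup G} {σ τ : G} {r : ℕ} {l : Subgroup.zpowers σ →* ℂˣ}
    (h : Semi D σ τ r l) {x : G} (hx : x ∈ D) :
    x * σ ^ r * x⁻¹ = σ ^ r ∨ x * σ ^ r * x⁻¹ = (σ ^ r)⁻¹ := by
  rcases h.conj_rotation hx (Subgroup.npow_mem_zpowers σ r) with e | e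
  · exact Or.inl e
  · exact Or.inr (by rw [e, ← h.conj_rot (Subgroup.npow_mem_zpowers σ r), h.conj_a])

/-- The local block exists. -/
theorem exists_ctx (hM : IsPModular 2 M) (hB : IsPBlock M B) {P : Subgroup G}
    (hP : IsDefectGroup 2 M B P) {σ τ : G} {r : ℕ} {l : Subgroup.zpowers σ →* ℂˣ}
    (h : Semi P σ τ r l) :
    ∃ (K : Subgroup G) (b : Set (IrrCharacter K)) (D : Subgroup K) (σ' τ' : K)
      (l' : Subgroup.zpowers σ' →* ℂˣ)
      (e : Set (IrrCharacter (Subgroup.centralizer (D : Set K)))) (F : FusionSystem D)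
      (ξ₀ : IrrCharacter K) (Φ : IrrCharacter D ≃ b),
      Ctx M B b D σ' τ' r l' e F ξ₀ Φ ∧ (σ' : G) = σ := by
  obtain ⟨c, hc⟩ := exists_pairOf_of_isDefectGroup hM hB hP
  have hmax := isMaximal_of_isDefectGroup hM hc hP
  set Q : Subgroup G := Subgroup.zpowers (σ ^ r) with hQ
  have haP : σ ^ r ∈ P := P.pow_mem h.memσ r
  have hQP : Q ≤ P := Subgroup.zpowers_le.2 haP
  obtain ⟨f, -, hle⟩ := exists_below hM (Nat.card P) (Nat.sub_le _ _) hmax.1.1 hQP
  have hfB := (subpairLE_pairOf_iff hM (a := ⟨Q, f⟩) hle B).1 hmax.1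
  set N := Subgroup.normalizer (Q : Set G) with hN
  have hN' : ∀ x : G, x ∈ N ↔
      x * σ ^ r * x⁻¹ = σ ^ r ∨ x * σ ^ r * x⁻¹ = (σ ^ r)⁻¹ := by
    intro x
    constructor
    · intro hx
      have h1 : x * σ ^ r * x⁻¹ ∈ Q :=
        (Subgroup.mem_normalizer_iff.1 hx _).1 (Subgroup.mem_zpowers _)
      refine h.eq_a_or_inv (Subgroup.zpowers_le.2 (Subgroup.npow_mem_zpowers σ r) h1) ?_
      have h2 : x * σ ^ r * x⁻¹ * (x * σ ^ r * x⁻¹) ∈ Subgroup.zpowers σ :=
        Subgroup.zpowers_le.2 (Subgroup.npow_mem_zpowers σ r) (mul_mem h1 h1)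
      rw [show x * σ ^ r * x⁻¹ * (x * σ ^ r * x⁻¹) = x * (σ ^ r) ^ 2 * x⁻¹ by rw [pow_two]; group,
        a_sq_eq] at h2 ⊢
      refine (h.eq_one_or_z h2 ?_).resolve_left fun e => h.z_ne (conj_eq_one_iff.1 e)
      rw [show x * σ ^ (2 * r) * x⁻¹ * (x * σ ^ (2 * r) * x⁻¹) =
        x * (σ ^ (2 * r) * σ ^ (2 * r)) * x⁻¹ by group, h.z_sq]
      group
    · intro hx
      refine mem_normalizer_zpowers ?_
      rcases hx with e | e <;> rw [e]
      exacts [Subgroup.mem_zpowers _, inv_mem (Subgroup.mem_zpowers _)]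
  have hPN : P ≤ N := fun x hx => (hN' x).2 (by
    exact h.conj_a_cases hx)
  have hCN : Subgroup.centralizer (Q : Set G) ≤ N := centralizer_le_normalizer' Q
  have hst : P ≤ pairStab Q f := fun x hx =>
    normalizerIn_le_pairStab hM hmax.1.1 hle ⟨hx, hPN hx⟩
  have hNs : N ≤ pairStab Q f := by
    intro x hx
    rcases (hN' x).1 hx with e | e
    · refine centralizer_le_pairStab Q f (Subgroup.mem_centralizer_iff.2 fun y hy => ?_)
      obtain ⟨i, rfl⟩ := Subgroup.mem_zpowers_iff.1 hy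
      exact ((show Commute x (σ ^ r) from mul_inv_eq_iff_eq_mul.1 e).zpow_right i).eq.symm
    · have h1 : τ⁻¹ * x ∈ Subgroup.centralizer (Q : Set G) := by
        refine Subgroup.mem_centralizer_iff.2 fun y hy => ?_
        obtain ⟨i, rfl⟩ := Subgroup.mem_zpowers_iff.1 hy
        refine ((show Commute (τ⁻¹ * x) (σ ^ r) from mul_inv_eq_iff_eq_mul.1 ?_).zpow_right i).eq.symm
        calc τ⁻¹ * x * σ ^ r * (τ⁻¹ * x)⁻¹ = τ⁻¹ * (x * σ ^ r * x⁻¹) * τ := by group
          _ = τ⁻¹ * (τ * σ ^ r * τ⁻¹) * τ := by rw [e, h.conj_a]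
          _ = σ ^ r := by group
      have := mul_mem (hst h.memτ) (centralizer_le_pairStab Q f h1)
      rwa [mul_inv_cancel_left] at this
  have hQp : IsPGroup 2 Q := h.isPGroup.to_le hQP
  obtain ⟨E, hE, hco⟩ := exists_block_over hM hQp (Subgroup.le_normalizer) hCN le_rfl hfB.1.2
    fun x hx => (hNs hx).2
  have hD : IsDefectGroup 2 M E (P.subgroupOf N) := by
    refine (isDefectGroup_iff_brv hM hfB.1.2 hCN hE hco hPN h.isPGroup).2 ⟨?_, fun Y hY hYp hYb => ?_⟩
    · have := brv_normalizerIn hM hmax.1.1 hle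
      rwa [inf_eq_left.2 hPN] at this
    · obtain ⟨x, -, hx⟩ := exists_normalizer_max hM hmax hfB
      exact (hx Y (hY.trans hNs) hYp hYb).trans (Subgroup.card_le_of_le inf_le_left)
  obtain ⟨l', h'⟩ := h.subgroupOf hPN
  have hn : ∀ g : N, g * (⟨σ, hPN h.memσ⟩ : N) ^ r * g⁻¹ = (⟨σ, hPN h.memσ⟩ : N) ^ r ∨
      g * (⟨σ, hPN h.memσ⟩ : N) ^ r * g⁻¹ = ((⟨σ, hPN h.memσ⟩ : N) ^ r)⁻¹ := fun g => by
    rcases (hN' g).1 g.2 with e | e
    · exact Or.inl (Subtype.ext (by simpa using e))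
    · exact Or.inr (Subtype.ext (by simpa using e))
  obtain ⟨e, F, ξ₀, Φ, L⟩ := exists_loc hM hE hD h' hn
  have hd : blockDefect 2 E = blockDefect 2 B := by
    refine Nat.pow_right_injective le_rfl (a₁ := blockDefect 2 E) ?_
    show 2 ^ blockDefect 2 E = 2 ^ blockDefect 2 B
    rw [← IsDefectGroup.card_eq hM hE hD, ← IsDefectGroup.card_eq hM hB hP,
      CfsgLib.Fusion.card_subgroupOf_eq hPN]
  refine ⟨N, E, _, _, _, l', e, F, ξ₀, Φ, ⟨h', L, hB, fun x hx => (hN' x).2 (by simpa using hx),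
    hn, fun χ hχ g hg => ?_, hd, (IsDefectGroup.card_eq hM hB hP).symm.trans h.card⟩, rfl⟩
  rw [SubgroupClass.coe_pow] at hg
  obtain ⟨m, hm⟩ := hg
  have hgC : (g : G) ∈ Subgroup.centralizer (Q : Set G) := by
    refine Subgroup.mem_centralizer_iff.2 fun y hy => ?_
    obtain ⟨i, rfl⟩ := Subgroup.mem_zpowers_iff.1 hy
    exact ((show Commute (g : G) (σ ^ r) from hm ▸ Commute.self_pow _ m).zpow_right i).eq.symm
  obtain ⟨u, hu⟩ : ∃ u, IsPPart 2 (g : G) u := ⟨_, isPPart_pPt _⟩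
  have hv := blockPart_restrict_eq_zero hM ⟨2, by rw [h.a_ord]; norm_num⟩ rfl
    (Star.isInducedBlock_of_pairOf hM hfB) hχ ⟨(g : G), hgC⟩ hu
    (Supp.two_part_mem h.a_ord ⟨m, hm⟩ hu)
  have hcl : ∀ H : Subgroup G, IsClassFunction H (fun k : H => (χ : G → ℂ) (k : G)) :=
    fun H k y => by
      simp only [Subgroup.coe_mul, Subgroup.coe_inv]
      exact Char.IsIrr.isClassFunction χ.2 _ _
  rw [blockPart_eq_sum_blockCoeff _ (hcl _)] at hv ⊢
  rw [← hv, ← Finset.sum_filter_of_ne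
    (p := fun k : N => (k : G) ∈ Subgroup.centralizer (Q : Set G)) (s := Finset.univ)
    fun k _ hne => by
      by_contra hk
      rw [hco k, subgroupBlockCoeff, dif_neg hk, zero_mul] at hne
      exact hne rfl]
  refine Finset.sum_bij (fun k hk => ⟨(k : G), (Finset.mem_filter.1 hk).2⟩)
    (fun _ _ => Finset.mem_univ _) (fun a _ b _ e => Subtype.ext (congrArg Subtype.val e :))
    (fun k _ => ⟨⟨(k : G), hCN k.2⟩, Finset.mem_filter.2 ⟨Finset.mem_univ _, k.2⟩, rfl⟩)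
    fun k hk => ?_
  rw [hco k, subgroupBlockCoeff, dif_pos (Finset.mem_filter.1 hk).2]
  rfl
where
  mem_normalizer_zpowers {a x : G} (hx : x * a * x⁻¹ ∈ Subgroup.zpowers a) :
      x ∈ Subgroup.normalizer (Subgroup.zpowers a : Set G) := by
    have hmap : (Subgroup.zpowers a).map (MulAut.conj x).toMonoidHom = Subgroup.zpowers a := by
      refine Subgroup.eq_of_le_of_card_ge ?_ (le_of_eq ?_)
      · rw [MonoidHom.map_zpowers]
        exact Subgroup.zpowers_le.2 (by simpa using hx)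
      · exact (card_map_conj x _).symm
    refine Subgroup.mem_normalizer_iff.2 fun y => ?_
    conv_rhs => rw [← hmap, map_conj_eq, show x⁻¹ * (x * y * x⁻¹) * x = y by group]

end CfsgLib.Blocks.SemiDefect
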